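import Groth.Agent.W4c1hilbpn.K871.TwoPlanes
import Mathlib.Data.Sym.Card
import Mathlib.Data.Finsupp.Multiset
import Mathlib.Tactic

set_option autoImplicit false

/-!
Degree zero homomorphisms for the ideals `x_0 (x_0, ..., x_{n-1}) + x_1^q (x_1, ..., x_s)`.
-/

namespace K871.Borel

open MvPolynomial W4c1hilbpn K777.Basic K777.Model K777.Decomp K777.Colen K871.GenMdl K871.TwoPlanes

/-- generators `x_0 x_i` -/
def PP (n : ℕ) (i : Fin n) : Fin (n + 1) → ℤ := ee 0 + ee i.val

/-- generators `x_1 ^ q x_{j+1}` -/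
def HH (n q s : ℕ) (j : Fin s) : Fin (n + 1) → ℤ := (fun t => if t.val = 1 then (q : ℤ) else 0) + ee (j.val + 1)

/-- The counting lemma with indicator functions. -/
theorem finrank_iSup_ind {σ : Type*} [Finite σ] [DecidableEq σ] {k : Type*} [Field k] {I : Ideal (MvPolynomial σ k)}
    {Γ : Type*} {g : Γ → σ → ℤ} (hg : IsGen I g) (A : Set (σ → ℤ)) {ι : Type*} [Fintype ι] (gi : ι → Γ)
    (al : ι → σ → ℤ) (hA : ∀ p, al p ∈ A)
    (hinj : ∀ α ∈ A, ∀ c : Γ → k, IsCompat I g α c → (∀ p, al p = α → c (gi p) = 0) → ∀ i, c i = 0)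
    (hsurj : ∀ p, ∃ T : Set Γ, (∀ i ∈ T, g i + al p ∈ DD I) ∧
      (∀ i ∈ T, ∀ j ∉ T, ∃ l, ∀ t, g l t ≤ (g i ⊔ g j + al p) t) ∧ gi p ∈ T ∧
      ∀ p', p' ≠ p → al p' = al p → gi p' ∉ T) :
    Module.finrank k ↥(⨆ α : A, tPiece I (α : σ → ℤ)) = Fintype.card ι := by
  classical
  refine finrank_iSup hg A gi al hA hinj fun p => ?_
  obtain ⟨T, h1, h2, h3, h4⟩ := hsurj p
  exact ⟨_, isCompat_indicator hg T h1 h2, if_pos h3, fun p' hp' hal => if_neg (h4 p' hp' hal)⟩

theorem sum_PP {n : ℕ} (i : Fin n) : ∑ t, PP n i t = 2 := by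
  change ∑ t, ((ee 0 : Fin (n + 1) → ℤ) t + (ee i.val : Fin (n + 1) → ℤ) t) = 2
  rw [Finset.sum_add_distrib, sum_ee (by omega), sum_ee (by omega)]; rfl

theorem sum_q {n q : ℕ} (hn : 1 ≤ n) : ∑ t : Fin (n + 1), (if t.val = 1 then (q : ℤ) else 0) = q := by
  rw [Finset.sum_eq_single (⟨1, by omega⟩ : Fin (n + 1))]
  · simp
  · intro t _ ht
    have : t.val ≠ 1 := fun h => ht (Fin.ext h)
    simp [this]
  · simp

theorem sum_HH {n q s : ℕ} (hn : 1 ≤ n) (hs : s ≤ n) (j : Fin s) : ∑ t, HH n q s j t = q + 1 := by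
  change ∑ t : Fin (n + 1), ((if t.val = 1 then (q : ℤ) else 0) + (ee (j.val + 1) : Fin (n + 1) → ℤ) t) = q + 1
  rw [Finset.sum_add_distrib, sum_q hn, sum_ee (by omega)]

/-! ### The quadratic generators -/

section quad

variable {n : ℕ} {k : Type*} [Field k] {I : Ideal (MvPolynomial (Fin (n + 1)) k)} {Γ₂ : Type*}
  {h : Γ₂ → Fin (n + 1) → ℤ} (hg : IsGen I (Sum.elim (PP n) h))

include hg in
theorem zero_le_one_of_mem {γ : Fin (n + 1) → ℤ} (hγ : γ ∈ DD I) {z : Fin (n + 1)} (hz : z.val = 0) (hn : 1 ≤ n) :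
    γ z = 0 ∨ (γ z = 1 ∧ ∀ t : Fin (n + 1), 1 ≤ t.val → t.val < n → γ t = 0) := by
  have hnn := hγ.1
  by_contra hcon
  push Not at hcon
  obtain ⟨h1, h2⟩ := hcon
  have hz0 := hnn z
  by_cases h3 : γ z = 1
  · obtain ⟨t, ht1, ht2, ht3⟩ := h2 h3
    refine not_mem_DD ((hg.mem_iff γ).2 ⟨Sum.inl ⟨t.val, ht2⟩, fun u => ?_⟩) hγ
    have h4 := hnn t
    have h5 := hnn u
    simp only [Sum.elim_inl, PP, ee, Pi.add_apply]
    rcases eq_or_ne u z with rfl | hu
    · omega
    · rcases eq_or_ne u t with rfl | hu'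
      · omega
      · omega
  · refine not_mem_DD ((hg.mem_iff γ).2 ⟨Sum.inl ⟨0, by omega⟩, fun u => ?_⟩) hγ
    have h5 := hnn u
    simp only [Sum.elim_inl, PP, ee, Pi.add_apply]
    rcases eq_or_ne u z with rfl | hu
    · omega
    · omega

include hg in
theorem link {α : Fin (n + 1) → ℤ} {e : Fin n ⊕ Γ₂ → k} (he : IsCompat I (Sum.elim (PP n) h) α e)
    (i j : Fin n) (hij : i ≠ j) (hj : 1 ≤ j.val) (hD : PP n i + α + ee j.val ∈ DD I) :
    e (Sum.inl i) = e (Sum.inl j) := by
  apply he.eq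
  have : (Sum.elim (PP n) h (Sum.inl i) ⊔ Sum.elim (PP n) h (Sum.inl j) + α) = PP n i + α + ee j.val := by
    ext t
    simp only [Sum.elim_inl, Pi.add_apply, Pi.sup_apply, PP, ee]
    omega
  rw [this]
  exact hD

include hg in
theorem eq_zero_of_link {α : Fin (n + 1) → ℤ} {e : Fin n ⊕ Γ₂ → k} (he : IsCompat I (Sum.elim (PP n) h) α e)
    (i j : Fin n) (hij : i ≠ j) (hj : 1 ≤ j.val) (hD : PP n i + α + ee j.val ∈ DD I)
    {u : Fin (n + 1)} (hu : u.val = i.val) (h0 : (PP n i + α) u = 0) :
    e (Sum.inl i) = 0 := by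
  rw [link hg he i j hij hj hD]
  by_contra hne
  have h1 := (he.mem _ hne).1 u
  simp only [Sum.elim_inl, Pi.add_apply, PP, ee] at h0 h1
  omega

/-- shape of the target of a quadratic generator -/
theorem target_of_pos {α : Fin (n + 1) → ℤ} (hα : ∑ t, α t = 0) (i : Fin n) (hnn : ∀ t, 0 ≤ (PP n i + α) t)
    {u : Fin (n + 1)} (hu : u.val = i.val) (h0 : (PP n i + α) u ≠ 0) :
    ∃ m ≤ n, α = ee m - ee 0 := by
  obtain ⟨m, hm, hγ⟩ := eq_ee_of_sum_one (γ := PP n i + α - ee i.val) (fun t => by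
      have h1 := hnn t
      have h2 := hnn u
      simp only [Pi.sub_apply, ee]
      by_cases ht : t.val = i.val
      · have e : t = u := Fin.ext (ht.trans hu.symm)
        rw [if_pos ht, e]; omega
      · rw [if_neg ht]; omega) (by
      simp only [Pi.sub_apply, Pi.add_apply]
      rw [Finset.sum_sub_distrib, Finset.sum_add_distrib, sum_PP, hα, sum_ee (by omega)]; rfl)
  refine ⟨m, hm, ?_⟩
  ext t
  have := congrFun hγ t
  simp only [Pi.sub_apply, Pi.add_apply, PP, ee] at this ⊢
  omega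

/-- targets involving `x_0` -/
theorem target_zero {α : Fin (n + 1) → ℤ} (i : Fin n) (hα : ∑ t, α t = 0) 
    {z : Fin (n + 1)} (hz : z.val = 0) (h1 : (PP n i + α) z = 1)
    (h0 : ∀ t : Fin (n + 1), 1 ≤ t.val → t.val < n → (PP n i + α) t = 0) :
    α = ee n - ee i.val := by
  have hγ : PP n i + α = ee 0 + ee n := by
    have hs : ∑ t, (PP n i + α) t = 2 := by
      simp only [Pi.add_apply]
      rw [Finset.sum_add_distrib, sum_PP, hα, add_zero]
    have hn1 : (⟨n, by omega⟩ : Fin (n + 1)) ≠ z := fun h => by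
      have := congrArg Fin.val h
      have := i.2
      simp only at *
      omega
    have h2 : (PP n i + α) ⟨n, by omega⟩ = 1 := by
      rw [← Finset.add_sum_erase _ _ (Finset.mem_univ z), h1,
        ← Finset.add_sum_erase _ _ (Finset.mem_erase.2 ⟨hn1, Finset.mem_univ _⟩)] at hs
      rw [Finset.sum_eq_zero (s := (Finset.univ.erase z).erase ⟨n, by omega⟩)] at hs
      · omega
      · intro t ht
        simp only [Finset.mem_erase, Finset.mem_univ, and_true] at ht
        have h3 : t.val ≠ n := fun h => ht.1 (Fin.ext h)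
        have h4 : t.val ≠ 0 := fun h => ht.2 (Fin.ext (h.trans hz.symm))
        exact h0 t (by omega) (by omega)
    ext t
    have hi := i.2
    rcases eq_or_ne t z with rfl | htz
    · rw [h1]; simp only [Pi.add_apply, ee]; omega
    · rcases eq_or_ne t.val n with htn | htn
      · have : t = ⟨n, by omega⟩ := Fin.ext htn
        rw [this, h2]; simp only [Pi.add_apply, ee, if_true]
        rw [if_neg (by omega)]; rfl
      · have h4 : t.val ≠ 0 := fun h => htz (Fin.ext (h.trans hz.symm))
        rw [h0 t (by omega) (by omega)]; simp only [Pi.add_apply, ee]; omega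
  ext t
  have := congrFun hγ t
  simp only [Pi.sub_apply, Pi.add_apply, PP, ee] at this ⊢
  omega

end quad

/-! ### The ideals -/

section ideal

variable (n q s : ℕ) (k : Type*) [Field k]

/-- all the generators -/
def gB : Fin n ⊕ Fin s → Fin (n + 1) → ℤ := Sum.elim (PP n) (HH n q s)

/-- the ideal `x_0 (x_0, ..., x_{n-1}) + x_1^q (x_1, ..., x_s)` -/
noncomputable def IB : Ideal (MvPolynomial (Fin (n + 1)) k) :=
  Ideal.span ({f : MvPolynomial (Fin (n + 1)) k | ∃ i : Fin (n + 1), i.val + 1 ≤ n ∧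
    f = MvPolynomial.X 0 * MvPolynomial.X i} ∪ {f : MvPolynomial (Fin (n + 1)) k | ∃ i : Fin (n + 1),
      1 ≤ i.val ∧ i.val ≤ s ∧ f = MvPolynomial.X 1 ^ q * MvPolynomial.X i})

variable {n q s}

theorem isGenB (hn : 1 ≤ n) (hs : s + 1 ≤ n) : IsGen (IB n q s k) (gB n q s) := by
  let G : Fin n ⊕ Fin s → Fin (n + 1) →₀ ℕ := Sum.elim
    (fun i => Finsupp.single 0 1 + Finsupp.single ⟨i.val, by omega⟩ 1)
    (fun j => Finsupp.single 1 q + Finsupp.single ⟨j.val + 1, by omega⟩ 1)
  have h1 : IB n q s k = Ideal.span (Set.range fun i => monomial (G i) (1 : k)) := by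
    rw [IB]
    congr 1
    ext f
    constructor
    · rintro (⟨i, hi, rfl⟩ | ⟨i, hi, hi', rfl⟩)
      · refine ⟨Sum.inl ⟨i.val, by omega⟩, ?_⟩
        simp only [G, X, monomial_mul, one_mul, Sum.elim_inl]
      · refine ⟨Sum.inr ⟨i.val - 1, by omega⟩, ?_⟩
        have : (⟨i.val - 1 + 1, by omega⟩ : Fin (n + 1)) = i := Fin.ext (by dsimp only; omega)
        simp only [G, X_pow_eq_monomial, Sum.elim_inr, this]
        simp only [X, monomial_mul, one_mul]
    · rintro ⟨i | j, rfl⟩
      · left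
        refine ⟨⟨i.val, by omega⟩, by dsimp only; omega, ?_⟩
        simp only [G, X, monomial_mul, one_mul, Sum.elim_inl]
      · right
        refine ⟨⟨j.val + 1, by omega⟩, by dsimp only; omega, by dsimp only; omega, ?_⟩
        simp only [G, X_pow_eq_monomial, Sum.elim_inr]
        simp only [X, monomial_mul, one_mul]
  have h2 : gB n q s = (fun i t => ((G i t : ℕ) : ℤ)) := by
    ext p t
    have e0 : (0 : Fin (n + 1)).val = 0 := rfl
    have e1 : (1 : Fin (n + 1)).val = 1 := by
      rw [Fin.val_one']; exact Nat.mod_eq_of_lt (by omega)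
    rcases p with i | j
    · simp only [gB, PP, G, ee, Sum.elim_inl, Pi.add_apply, Finsupp.add_apply, Finsupp.single_apply, Fin.ext_iff, Nat.cast_add,
        Nat.cast_ite, Nat.cast_one, Nat.cast_zero, e0]
      simp only [eq_comm]
    · simp only [gB, HH, G, ee, Sum.elim_inr, Pi.add_apply, Finsupp.add_apply, Finsupp.single_apply, Fin.ext_iff, Nat.cast_add,
        Nat.cast_ite, Nat.cast_one, Nat.cast_zero, e1]
      simp only [eq_comm]
  rw [h1, h2]
  exact isGen_span k G

/-- Monomials outside of the ideal. -/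
theorem mem_DD_B (hq : 1 ≤ q) (hs1 : 1 ≤ s) (hs : s + 1 ≤ n) {z o : Fin (n + 1)} (hz : z.val = 0) (ho : o.val = 1)
    (γ : Fin (n + 1) → ℤ) : γ ∈ DD (IB n q s k) ↔ (∀ t, 0 ≤ γ t) ∧
      ((γ z = 0 ∧ (γ o < q ∨ (γ o = q ∧ ∀ t : Fin (n + 1), 2 ≤ t.val → t.val ≤ s → γ t = 0))) ∨
        (γ z = 1 ∧ ∀ t : Fin (n + 1), 1 ≤ t.val → t.val < n → γ t = 0)) := by
  have hg := isGenB (q := q) (s := s) k (by omega : 1 ≤ n) hs
  constructor
  · intro h
    refine ⟨h.1, ?_⟩
    rcases zero_le_one_of_mem hg h hz (by omega) with h0 | h0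
    · left
      refine ⟨h0, ?_⟩
      by_contra hcon
      push Not at hcon
      obtain ⟨h1, h2⟩ := hcon
      rcases lt_or_eq_of_le h1 with h3 | h3
      · refine not_mem_DD ((hg.mem_iff γ).2 ⟨Sum.inr ⟨0, by omega⟩, fun u => ?_⟩) h
        have h4 := h.1 u
        simp only [gB, Sum.elim_inr, HH, ee, Pi.add_apply]
        rcases eq_or_ne u o with rfl | hu
        · omega
        · omega
      · obtain ⟨t, ht1, ht2, ht3⟩ := h2 h3.symm
        refine not_mem_DD ((hg.mem_iff γ).2 ⟨Sum.inr ⟨t.val - 1, by omega⟩, fun u => ?_⟩) h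
        have h4 := h.1 u
        have h5 := h.1 t
        simp only [gB, Sum.elim_inr, HH, ee, Pi.add_apply]
        rcases eq_or_ne u o with rfl | hu
        · omega
        · rcases eq_or_ne u t with rfl | hu'
          · omega
          · omega
    · exact Or.inr h0
  · rintro ⟨h0, h⟩
    rcases mem_UU_or_DD (I := IB n q s k) h0 with h1 | h1
    · obtain ⟨p, hp⟩ := (hg.mem_iff γ).1 h1
      exfalso
      rcases p with i | j
      · have hi := i.2
        have h2 := hp z
        have h3 := hp ⟨i.val, by omega⟩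
        simp only [gB, PP, Sum.elim_inl, ee, Pi.add_apply, if_true] at h2 h3
        rcases h with ⟨h4, -⟩ | ⟨h4, h5⟩
        · omega
        · have h6 := h5 ⟨i.val, by omega⟩
          dsimp only at h6
          by_cases hi0 : i.val = 0
          · omega
          · have h7 := h6 (by omega) (by omega)
            rw [h7] at h3
            omega
      · have hj := j.2
        have h2 := hp o
        have h3 := hp ⟨j.val + 1, by omega⟩
        simp only [gB, HH, Sum.elim_inr, ee, Pi.add_apply, if_true] at h2 h3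
        rcases h with ⟨-, h4 | ⟨h4, h5⟩⟩ | ⟨h4, h5⟩
        · omega
        · have h6 := h5 ⟨j.val + 1, by omega⟩
          dsimp only at h6
          by_cases hj0 : j.val = 0
          · omega
          · have h7 := h6 (by omega) (by omega)
            rw [h7] at h3
            omega
        · have h6 := h5 o (by omega) (by omega)
          omega
    · exact h1

/-! ### The generators `x_1 ^ q x_j` -/

/-- monomials of degree `q` in `x_1, ..., x_n`, as vectors -/
def vv {n : ℕ} (v : Fin n → ℕ) : Fin (n + 1) → ℤ := Fin.cons 0 (fun i => (v i : ℤ))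

theorem vv_zero {n : ℕ} (v : Fin n → ℕ) {z : Fin (n + 1)} (hz : z.val = 0) : vv v z = 0 := by
  have : z = 0 := Fin.ext hz
  rw [this]; rfl

theorem vv_succ {n : ℕ} (v : Fin n → ℕ) {t : Fin (n + 1)} (i : Fin n) (ht : t.val = i.val + 1) : vv v t = v i := by
  have : t = i.succ := Fin.ext ht
  rw [this]; rfl

theorem vv_nonneg {n : ℕ} (v : Fin n → ℕ) (t : Fin (n + 1)) : 0 ≤ vv v t := by
  rcases Nat.eq_zero_or_pos t.val with h | h
  · rw [vv_zero v h]
  · rw [vv_succ v ⟨t.val - 1, by omega⟩ (by dsimp only; omega)]; positivity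

theorem sum_vv {n : ℕ} (v : Fin n → ℕ) : ∑ t, vv v t = ((∑ i, v i : ℕ) : ℤ) := by
  rw [Fin.sum_univ_succ]
  simp [vv]

theorem exists_vv {n : ℕ} {γ : Fin (n + 1) → ℤ} (h0 : ∀ t, 0 ≤ γ t) {z : Fin (n + 1)} (hz : z.val = 0) (hγ : γ z = 0) :
    ∃ v : Fin n → ℕ, γ = vv v := by
  refine ⟨fun i => (γ i.succ).toNat, ?_⟩
  ext t
  rcases Nat.eq_zero_or_pos t.val with h | h
  · rw [vv_zero _ h, ← hγ]; congr 1; exact Fin.ext (h.trans hz.symm)
  · have h1 := vv_succ (fun i => (γ i.succ).toNat) (t := t) ⟨t.val - 1, by omega⟩ (by dsimp only; omega)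
    rw [h1]
    have : (⟨t.val - 1, by omega⟩ : Fin n).succ = t := Fin.ext (by simp only [Fin.val_succ]; omega)
    rw [this]
    have := h0 t
    omega

/-- the forbidden exponent -/
def v0 (n q : ℕ) : Fin n → ℕ := fun i => if i.val = 0 then q else 0

/-- coordinates for the generators `x_1 ^ q x_j` -/
abbrev CooG (n q s : ℕ) : Type :=
  Fin s ⊕ (Fin s × Fin (n - s)) ⊕ {v : Fin n → ℕ // ∑ i, v i = q ∧ v ≠ v0 n q}

noncomputable instance (n q : ℕ) : Fintype {v : Fin n → ℕ // ∑ i, v i = q ∧ v ≠ v0 n q} := by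
  classical
  have : Finite {v : Fin n → ℕ // ∑ i, v i = q} := Finite.of_equiv _ (Sym.equivNatSumOfFintype (Fin n) q)
  have : Finite {v : Fin n → ℕ // ∑ i, v i = q ∧ v ≠ v0 n q} :=
    Finite.of_injective (β := {v : Fin n → ℕ // ∑ i, v i = q}) (fun v => ⟨v.1, v.2.1⟩)
      (fun v w h => Subtype.ext (by have := congrArg Subtype.val h; exact this))
  exact Fintype.ofFinite _

def giG (hs : 2 ≤ s) : CooG n q s → Fin s := Sum.elim id (Sum.elim (fun x => x.1) (fun _ => ⟨1, by omega⟩))

def alG : CooG n q s → Fin (n + 1) → ℤ :=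
  Sum.elim (fun j => ee 0 + (fun t => if t.val = n then (q : ℤ) else 0) - HH n q s j)
    (Sum.elim (fun x => ee (s + 1 + x.2.val) - ee (x.1.val + 1))
      (fun v => vv v.1 - (fun t => if t.val = 1 then (q : ℤ) else 0)))

theorem sum_alG (hn : 1 ≤ n) (hs : s + 1 ≤ n) (p : CooG n q s) : ∑ t, alG p t = 0 := by
  rcases p with j | ⟨j, m⟩ | v
  · simp only [alG, Sum.elim_inl, Pi.add_apply, Pi.sub_apply]
    rw [Finset.sum_sub_distrib, Finset.sum_add_distrib, sum_HH hn (by omega), sum_ee (by omega)]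
    rw [Finset.sum_eq_single (⟨n, by omega⟩ : Fin (n + 1))]
    · simp; ring
    · intro t _ ht
      have : t.val ≠ n := fun h => ht (Fin.ext h)
      simp [this]
    · simp
  · simp only [alG, Sum.elim_inl, Sum.elim_inr, Pi.sub_apply]
    rw [Finset.sum_sub_distrib, sum_ee (by omega), sum_ee (by omega), sub_self]
  · simp only [alG, Sum.elim_inr, Pi.sub_apply]
    rw [Finset.sum_sub_distrib, sum_vv, v.2.1, sum_q hn, sub_self]

theorem sup_HH (j j' : Fin s) (hj : j ≠ j') : HH n q s j ⊔ HH n q s j' = HH n q s j + ee (j'.val + 1) := by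
  ext t
  simp only [HH, ee, Pi.sup_apply, Pi.add_apply]
  omega

theorem injG (hq : 1 ≤ q) (hs2 : 2 ≤ s) (hs : s + 1 ≤ n) {α : Fin (n + 1) → ℤ} (hα : ∑ t, α t = 0)
    {e : Fin n ⊕ Fin s → k} (he : IsCompat (IB n q s k) (gB n q s) α e)
    (h0 : ∀ p : CooG n q s, alG p = α → e (Sum.inr (giG hs2 p)) = 0) (j : Fin s) : e (Sum.inr j) = 0 := by
  by_contra hne
  let z : Fin (n + 1) := ⟨0, by omega⟩
  let o : Fin (n + 1) := ⟨1, by omega⟩
  have hz : z.val = 0 := rfl
  have ho : o.val = 1 := rfl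
  have hmem : HH n q s j + α ∈ DD (IB n q s k) := he.mem _ hne
  obtain ⟨hnn, hcase⟩ := (mem_DD_B k hq (by omega) hs hz ho _).1 hmem
  have hsum : ∑ t, (HH n q s j + α) t = q + 1 := by
    simp only [Pi.add_apply]
    rw [Finset.sum_add_distrib, sum_HH (by omega) (by omega), hα, add_zero]
  have hHH : ∀ t : Fin (n + 1), HH n q s j t = (if t.val = 1 then (q : ℤ) else 0) + (if t.val = j.val + 1 then 1 else 0) :=
    fun t => rfl
  have hj := j.2
  set γ := HH n q s j + α with hγdef
  have hαγ : ∀ t, α t = γ t - HH n q s j t := fun t => by rw [hγdef]; simp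
  rcases hcase with ⟨hz0, h | ⟨h1, h2⟩⟩ | ⟨h1, h2⟩
  · -- `γ_1 < q`
    let u : Fin (n + 1) := ⟨j.val + 1, by omega⟩
    have hu : u.val = j.val + 1 := rfl
    by_cases hγu : γ u = 0
    · -- some other `j'`
      have hex : ∃ j' : Fin s, j ≠ j' ∧ γ + ee (j'.val + 1) ∈ DD (IB n q s k) := by
        have hgood : ∀ j' : Fin s, 1 ≤ j'.val → γ + ee (j'.val + 1) ∈ DD (IB n q s k) := by
          intro j' hj'
          refine (mem_DD_B k hq (by omega) hs hz ho _).2 ⟨fun t => ?_, Or.inl ⟨?_, Or.inl ?_⟩⟩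
          · have := hnn t
            simp only [Pi.add_apply, ee]; omega
          · simp only [Pi.add_apply, ee]; omega
          · simp only [Pi.add_apply, ee]; omega
        by_cases hj1 : j.val = 1
        · by_cases hs3 : 3 ≤ s
          · exact ⟨⟨2, by omega⟩, fun h' => by have := congrArg Fin.val h'; dsimp only at this; omega,
              hgood _ (by dsimp only; omega)⟩
          · refine ⟨⟨0, by omega⟩, fun h' => by have := congrArg Fin.val h'; dsimp only at this; omega, ?_⟩
            refine (mem_DD_B k hq (by omega) hs hz ho _).2 ⟨fun t => ?_, Or.inl ⟨?_, ?_⟩⟩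
            · have := hnn t
              simp only [Pi.add_apply, ee]; omega
            · simp only [Pi.add_apply, ee]; omega
            · by_cases hlt : γ o + 1 < q
              · left
                simp only [Pi.add_apply, ee]; omega
              · right
                refine ⟨by simp only [Pi.add_apply, ee]; omega, fun t ht1 ht2 => ?_⟩
                have : t = u := Fin.ext (by omega)
                rw [this]
                simp only [Pi.add_apply, ee]; omega
        · exact ⟨⟨1, by omega⟩, fun h' => by have := congrArg Fin.val h'; dsimp only at this; omega,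
            hgood _ le_rfl⟩
      obtain ⟨j', hjj', hD⟩ := hex
      have hlink : e (Sum.inr j) = e (Sum.inr j') := by
        apply he.eq
        change HH n q s j ⊔ HH n q s j' + α ∈ _
        rw [sup_HH j j' hjj', add_right_comm]
        exact hD
      have hne' : e (Sum.inr j') ≠ 0 := by rw [← hlink]; exact hne
      have h3 := (he.mem _ hne').1 u
      have h4 : j.val ≠ j'.val := fun h => hjj' (Fin.ext h)
      simp only [gB, Sum.elim_inr, Pi.add_apply, HH, ee, hαγ, hγu] at h3
      omega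
    · -- `γ = e_{j+1} + v`
      have hnn' : ∀ t, 0 ≤ (γ - ee (j.val + 1) : Fin (n + 1) → ℤ) t := by
        intro t
        have h1 := hnn t
        simp only [Pi.sub_apply, ee]
        by_cases ht : t.val = j.val + 1
        · have e : t = u := Fin.ext ht
          rw [if_pos ht, e]
          have := hnn u
          omega
        · rw [if_neg ht]; omega
      obtain ⟨v, hv⟩ := exists_vv hnn' hz (by simp only [Pi.sub_apply, ee]; omega)
      have hvsum : ∑ i, v i = q := by
        have h3 := sum_vv v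
        rw [← hv] at h3
        simp only [Pi.sub_apply] at h3
        rw [Finset.sum_sub_distrib, hsum, sum_ee (by omega)] at h3
        omega
      have hvo := congrFun hv o
      simp only [Pi.sub_apply, ee] at hvo
      rw [vv_succ v ⟨0, by omega⟩ rfl] at hvo
      have hv0 : v ≠ v0 n q := by
        intro h'
        rw [h'] at hvo
        simp only [v0, if_true] at hvo
        omega
      have hco := h0 (Sum.inr (Sum.inr ⟨v, hvsum, hv0⟩)) (by
        ext t
        have h3 := congrFun hv t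
        simp only [Pi.sub_apply, ee] at h3
        simp only [alG, Sum.elim_inr, Pi.sub_apply, ← h3, hαγ, hHH]
        omega)
      have hco' : e (Sum.inr ⟨1, by omega⟩) = 0 := hco
      by_cases hj1 : j.val = 1
      · have : j = ⟨1, by omega⟩ := Fin.ext hj1
        rw [this] at hne
        exact hne hco'
      · have hjj' : j ≠ ⟨1, by omega⟩ := fun h' => hj1 (congrArg Fin.val h')
        have hlink : e (Sum.inr j) = e (Sum.inr ⟨1, by omega⟩) := by
          apply he.eq
          change HH n q s j ⊔ HH n q s _ + α ∈ _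
          rw [sup_HH j _ hjj', add_right_comm, ← hγdef]
          refine (mem_DD_B k hq (by omega) hs hz ho _).2 ⟨fun t => ?_, Or.inl ⟨?_, Or.inl ?_⟩⟩
          · have := hnn t
            simp only [Pi.add_apply, ee]; omega
          · simp only [Pi.add_apply, ee]; omega
          · simp only [Pi.add_apply, ee]; omega
        rw [hlink] at hne
        exact hne hco'
  · -- `γ = q e_1 + e_m`
    obtain ⟨m, hm, hγ⟩ := eq_ee_of_sum_one (γ := γ - (fun t : Fin (n + 1) => if t.val = 1 then (q : ℤ) else 0)) (fun t => by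
        have h1' := hnn t
        simp only [Pi.sub_apply]
        by_cases ht : t.val = 1
        · have e : t = o := Fin.ext ht
          rw [if_pos ht, e]; omega
        · rw [if_neg ht]; omega) (by
        simp only [Pi.sub_apply]
        rw [Finset.sum_sub_distrib, hsum, sum_q (by omega)]; ring)
    have hms : s + 1 ≤ m := by
      by_contra hcon
      have h3 := congrFun hγ ⟨m, by omega⟩
      simp only [Pi.sub_apply, ee, if_true] at h3
      rcases Nat.lt_or_ge m 2 with hm2 | hm2
      · rcases Nat.eq_zero_or_pos m with hm0 | hm0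
        · have e : γ (⟨m, by omega⟩ : Fin (n + 1)) = γ z := congrArg γ (Fin.ext hm0)
          omega
        · have e : γ (⟨m, by omega⟩ : Fin (n + 1)) = γ o := congrArg γ (Fin.ext (by dsimp only; omega))
          omega
      · rw [h2 ⟨m, by omega⟩ hm2 (by dsimp only; omega)] at h3
        omega
    have hco := h0 (Sum.inr (Sum.inl (j, ⟨m - (s + 1), by omega⟩))) (by
      have e : s + 1 + (m - (s + 1)) = m := by omega
      ext t
      have h3 := congrFun hγ t
      simp only [Pi.sub_apply, ee] at h3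
      simp only [alG, Sum.elim_inr, Sum.elim_inl, Pi.sub_apply, e, hαγ, hHH, ee]
      omega)
    exact hne hco
  · -- `γ = e_0 + q e_n`
    have hγ : γ = ee 0 + (fun t => if t.val = n then (q : ℤ) else 0) := by
      have hn1 : (⟨n, by omega⟩ : Fin (n + 1)) ≠ z := fun h => by
        have := congrArg Fin.val h
        simp only at *
        omega
      have h3 : γ ⟨n, by omega⟩ = q := by
        rw [← Finset.add_sum_erase _ _ (Finset.mem_univ z), h1,
          ← Finset.add_sum_erase _ _ (Finset.mem_erase.2 ⟨hn1, Finset.mem_univ _⟩)] at hsum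
        rw [Finset.sum_eq_zero (s := (Finset.univ.erase z).erase ⟨n, by omega⟩)] at hsum
        · omega
        · intro t ht
          simp only [Finset.mem_erase, Finset.mem_univ, and_true] at ht
          have h3 : t.val ≠ n := fun h => ht.1 (Fin.ext h)
          have h4 : t.val ≠ 0 := fun h => ht.2 (Fin.ext (h.trans hz.symm))
          exact h2 t (by omega) (by omega)
      ext t
      rcases eq_or_ne t z with rfl | htz
      · rw [h1]; simp only [Pi.add_apply, ee]; omega
      · rcases eq_or_ne t.val n with htn | htn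
        · have : t = ⟨n, by omega⟩ := Fin.ext htn
          rw [this, h3]; simp only [Pi.add_apply, ee, if_true]
          rw [if_neg (by omega), zero_add]
        · have h4 : t.val ≠ 0 := fun h => htz (Fin.ext (h.trans hz.symm))
          rw [h2 t (by omega) (by omega)]; simp only [Pi.add_apply, ee]; omega
    have hco := h0 (Sum.inl j) (by
      ext t
      have h3 := congrFun hγ t
      simp only [Pi.add_apply, ee] at h3
      simp only [alG, Sum.elim_inl, Pi.sub_apply, Pi.add_apply, hαγ, h3, ee])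
    exact hne hco

theorem vv_injective : Function.Injective (vv : (Fin n → ℕ) → Fin (n + 1) → ℤ) := by
  intro v w h
  ext i
  have h1 := congrFun h i.succ
  rw [vv_succ v i rfl, vv_succ w i rfl] at h1
  exact_mod_cast h1

/-- a degree `q` monomial different from `x_1 ^ q` has exponent `< q` at `x_1` -/
theorem vv_one_lt {v : Fin n → ℕ} (hv : ∑ i, v i = q) (hv0 : v ≠ v0 n q) {o : Fin (n + 1)} (ho : o.val = 1)
    (hn : 1 ≤ n) : vv v o < q := by
  rw [vv_succ v ⟨0, by omega⟩ ho]
  by_contra hcon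
  apply hv0
  have h1 : v ⟨0, by omega⟩ + ∑ i ∈ Finset.univ.erase ⟨0, by omega⟩, v i = q := by
    rw [Finset.add_sum_erase _ _ (Finset.mem_univ _)]; exact hv
  have h2 : ∑ i ∈ Finset.univ.erase (⟨0, by omega⟩ : Fin n), v i = 0 := by omega
  rw [Finset.sum_eq_zero_iff] at h2
  ext i
  by_cases hi : i.val = 0
  · have e : v i = v ⟨0, by omega⟩ := congrArg v (Fin.ext hi)
    simp only [v0, hi, if_true]
    omega
  · simp only [v0, hi, if_false]
    exact h2 i (by simp only [Finset.mem_erase, Finset.mem_univ, and_true]; exact fun h => hi (congrArg Fin.val h))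

theorem surjG (hq : 1 ≤ q) (hs2 : 2 ≤ s) (hs : s + 1 ≤ n) (p : CooG n q s) :
    ∃ T : Set (Fin n ⊕ Fin s), (∀ i ∈ T, gB n q s i + alG p ∈ DD (IB n q s k)) ∧
      (∀ i ∈ T, ∀ j ∉ T, ∃ l, ∀ t, gB n q s l t ≤ (gB n q s i ⊔ gB n q s j + alG p) t) ∧
      Sum.inr (giG hs2 p) ∈ T ∧ (∀ i, Sum.inl i ∉ T) ∧
      ∀ p', p' ≠ p → alG p' = alG p → Sum.inr (giG hs2 p') ∉ T := by
  let z : Fin (n + 1) := ⟨0, by omega⟩
  let o : Fin (n + 1) := ⟨1, by omega⟩
  have hz : z.val = 0 := rfl
  have ho : o.val = 1 := rfl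
  rcases p with j | ⟨j, m⟩ | v
  · -- `w_j`
    have hj := j.2
    refine ⟨{Sum.inr j}, ?_, ?_, rfl, (fun i hi => by cases hi), ?_⟩
    · rintro i rfl
      have : gB n q s (Sum.inr j) + alG (Sum.inl j : CooG n q s) = ee 0 + (fun t => if t.val = n then (q : ℤ) else 0) := by
        ext t
        simp only [gB, alG, Sum.elim_inr, Sum.elim_inl, Pi.add_apply, Pi.sub_apply]; ring
      rw [this]
      refine (mem_DD_B k hq (by omega) hs hz ho _).2 ⟨fun t => ?_, Or.inr ⟨?_, fun t ht1 ht2 => ?_⟩⟩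
      · simp only [Pi.add_apply, ee]; omega
      · simp only [Pi.add_apply, ee]; omega
      · simp only [Pi.add_apply, ee]; omega
    · rintro i rfl x hx
      rcases x with i' | j'
      · refine ⟨Sum.inl ⟨0, by omega⟩, fun t => ?_⟩
        simp only [gB, alG, Sum.elim_inr, Sum.elim_inl, Pi.add_apply, Pi.sub_apply, Pi.sup_apply, PP, HH, ee]
        omega
      · have hjj' : j'.val ≠ j.val := fun h => hx (by rw [Fin.ext h]; rfl)
        have hj' := j'.2
        refine ⟨Sum.inl ⟨j'.val + 1, by omega⟩, fun t => ?_⟩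
        simp only [gB, alG, Sum.elim_inr, Sum.elim_inl, Pi.add_apply, Pi.sub_apply, Pi.sup_apply, PP, HH, ee]
        omega
    · rintro (j' | ⟨j', m'⟩ | v') hne hal hmem
      · have hmem' : (Sum.inr j' : Fin n ⊕ Fin s) = Sum.inr j := hmem
        rw [Sum.inr.injEq] at hmem'
        exact hne (by rw [hmem'])
      · have h1 := congrFun hal z
        have := m'.2
        simp only [gB, alG, Sum.elim_inr, Sum.elim_inl, Pi.add_apply, Pi.sub_apply, PP, HH, ee] at h1
        omega
      · have h1 := congrFun hal z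
        simp only [gB, alG, Sum.elim_inr, Sum.elim_inl, Pi.add_apply, Pi.sub_apply, PP, HH, ee, vv_zero _ hz] at h1
        omega
  · -- `u_{j,m}`
    have hj := j.2
    have hm := m.2
    refine ⟨{Sum.inr j}, ?_, ?_, rfl, (fun i hi => by cases hi), ?_⟩
    · rintro i rfl
      refine (mem_DD_B k hq (by omega) hs hz ho _).2 ⟨fun t => ?_, Or.inl ⟨?_, Or.inr ⟨?_, fun t ht1 ht2 => ?_⟩⟩⟩
      all_goals simp only [gB, alG, Sum.elim_inr, Sum.elim_inl, Pi.add_apply, Pi.sub_apply, PP, HH, ee]
      all_goals omega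
    · rintro i rfl x hx
      rcases x with i' | j'
      · refine ⟨Sum.inl ⟨1, by omega⟩, fun t => ?_⟩
        simp only [gB, alG, Sum.elim_inr, Sum.elim_inl, Pi.add_apply, Pi.sub_apply, Pi.sup_apply, PP, HH, ee]
        omega
      · have hjj' : j'.val ≠ j.val := fun h => hx (by rw [Fin.ext h]; rfl)
        have hj' := j'.2
        refine ⟨Sum.inr j', fun t => ?_⟩
        simp only [gB, alG, Sum.elim_inr, Sum.elim_inl, Pi.add_apply, Pi.sub_apply, Pi.sup_apply, PP, HH, ee]
        omega
    · rintro (j' | ⟨j', m'⟩ | v') hne hal hmem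
      · have h1 := congrFun hal z
        simp only [gB, alG, Sum.elim_inr, Sum.elim_inl, Pi.add_apply, Pi.sub_apply, PP, HH, ee] at h1
        omega
      · have hmem' : (Sum.inr j' : Fin n ⊕ Fin s) = Sum.inr j := hmem
        rw [Sum.inr.injEq] at hmem'
        subst hmem'
        have h1 := congrFun hal ⟨s + 1 + m'.val, by omega⟩
        simp only [gB, alG, Sum.elim_inr, Sum.elim_inl, Pi.add_apply, Pi.sub_apply, PP, HH, ee, if_true] at h1
        have h2 : m' = m := Fin.ext (by omega)
        exact hne (by rw [h2])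
      · have hmem' : (Sum.inr (⟨1, by omega⟩ : Fin s) : Fin n ⊕ Fin s) = Sum.inr j := hmem
        rw [Sum.inr.injEq] at hmem'
        have hj1 : j.val = 1 := by rw [← hmem']
        have h1 := congrFun hal ⟨2, by omega⟩
        have h2 := vv_nonneg v'.1 ⟨2, by omega⟩
        simp only [gB, alG, Sum.elim_inr, Sum.elim_inl, Pi.add_apply, Pi.sub_apply, PP, HH, ee] at h1
        omega
  · -- `v`
    have hvo := vv_one_lt v.2.1 v.2.2 ho (by omega)
    have hv0 := vv_zero v.1 hz
    have hvnn := vv_nonneg v.1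
    refine ⟨{x | ∃ j : Fin s, x = Sum.inr j ∧ (1 ≤ j.val ∨ vv v.1 o + 2 ≤ q)}, ?_, ?_, ⟨⟨1, by omega⟩, rfl, Or.inl le_rfl⟩,
      (fun i ⟨j, hj, _⟩ => by cases hj), ?_⟩
    · rintro i ⟨j, rfl, hj⟩
      have hjs := j.2
      have e1 : gB n q s (Sum.inr j) + alG (Sum.inr (Sum.inr v) : CooG n q s) = vv v.1 + ee (j.val + 1) := by
        ext t
        simp only [gB, alG, Sum.elim_inr, Pi.add_apply, Pi.sub_apply, HH, ee]
        ring
      rw [e1]
      refine (mem_DD_B k hq (by omega) hs hz ho _).2 ⟨fun t => ?_, Or.inl ⟨?_, Or.inl ?_⟩⟩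
      · have := hvnn t
        simp only [Pi.add_apply, ee]; omega
      · simp only [Pi.add_apply, ee]; omega
      · simp only [Pi.add_apply, ee]; omega
    · rintro i ⟨j, rfl, hj⟩ x hx
      have hjs := j.2
      rcases x with i' | j'
      · refine ⟨Sum.inl ⟨j.val + 1, by omega⟩, fun t => ?_⟩
        have := hvnn t
        simp only [gB, alG, Sum.elim_inr, Sum.elim_inl, Pi.add_apply, Pi.sub_apply, Pi.sup_apply, PP, HH, ee]
        omega
      · have hx' : ¬ (1 ≤ j'.val ∨ vv v.1 o + 2 ≤ q) := fun h => hx ⟨j', rfl, h⟩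
        push Not at hx'
        refine ⟨Sum.inr j, fun t => ?_⟩
        have := hvnn t
        simp only [gB, alG, Sum.elim_inr, Sum.elim_inl, Pi.add_apply, Pi.sub_apply, Pi.sup_apply, PP, HH, ee]
        rcases eq_or_ne t o with rfl | hto
        · omega
        · have : t.val ≠ 1 := fun h => hto (Fin.ext h)
          omega
    · rintro (j' | ⟨j', m'⟩ | v') hne hal hmem
      · have h1 := congrFun hal z
        simp only [gB, alG, Sum.elim_inr, Sum.elim_inl, Pi.add_apply, Pi.sub_apply, PP, HH, ee] at h1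
        omega
      · obtain ⟨j, hj, hj'⟩ := hmem
        have hj2 : j' = j := Sum.inr.inj hj
        subst hj2
        have hjs := j'.2
        have h1 := congrFun hal ⟨j'.val + 1, by omega⟩
        have h2 := hvnn ⟨j'.val + 1, by omega⟩
        simp only [gB, alG, Sum.elim_inr, Sum.elim_inl, Pi.add_apply, Pi.sub_apply, PP, HH, ee, if_true] at h1
        by_cases hj0 : j'.val = 0
        · have e : vv v.1 ⟨j'.val + 1, by omega⟩ = vv v.1 o := congrArg _ (Fin.ext (by dsimp only; omega))
          omega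
        · omega
      · have h1 : vv v'.1 = vv v.1 := by
          ext t
          have := congrFun hal t
          simp only [alG, Sum.elim_inr, Pi.sub_apply] at this
          linarith
        exact hne (by rw [Subtype.ext (vv_injective h1)])

/-! ### Counting -/

theorem card_v (hn : 1 ≤ n) : Fintype.card {v : Fin n → ℕ // ∑ i, v i = q ∧ v ≠ v0 n q} = (n + q - 1).choose (n - 1) - 1 := by
  classical
  have hv0 : ∑ i, v0 n q i = q := by
    rw [Finset.sum_eq_single (⟨0, by omega⟩ : Fin n)]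
    · simp [v0]
    · intro t _ ht
      have : t.val ≠ 0 := fun h => ht (Fin.ext h)
      simp [v0, this]
    · simp
  let e := Sym.equivNatSumOfFintype (Fin n) q
  have hfin : Finite {v : Fin n → ℕ // ∑ i, v i = q} := Finite.of_equiv _ e
  have hft : Fintype {v : Fin n → ℕ // ∑ i, v i = q} := Fintype.ofFinite _
  have h1 : Fintype.card {v : Fin n → ℕ // ∑ i, v i = q} = (n + q - 1).choose (n - 1) := by
    rw [← Nat.card_eq_fintype_card, ← Nat.card_congr e, Nat.card_eq_fintype_card, Sym.card_sym_eq_choose,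
      Fintype.card_fin]
    rw [← Nat.choose_symm_of_eq_add]
    omega
  rw [← h1, ← Nat.card_eq_fintype_card, ← Nat.card_eq_fintype_card]
  let a : {v : Fin n → ℕ // ∑ i, v i = q} := ⟨v0 n q, hv0⟩
  have e2 : {v : Fin n → ℕ // ∑ i, v i = q ∧ v ≠ v0 n q} ≃ {w : {v : Fin n → ℕ // ∑ i, v i = q} // w ≠ a} :=
    { toFun := fun v => ⟨⟨v.1, v.2.1⟩, fun h => v.2.2 (congrArg Subtype.val h)⟩
      invFun := fun w => ⟨w.1.1, w.1.2, fun h => w.2 (Subtype.ext h)⟩
      left_inv := fun v => rfl
      right_inv := fun w => rfl }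
  rw [Nat.card_congr e2, Nat.card_eq_fintype_card, Nat.card_eq_fintype_card]
  exact Set.card_ne_eq a

theorem card_CooG (hn : 1 ≤ n) : Fintype.card (CooG n q s) = s + (s * (n - s) + ((n + q - 1).choose (n - 1) - 1)) := by
  rw [Fintype.card_sum, Fintype.card_sum, Fintype.card_prod, card_v hn, Fintype.card_fin, Fintype.card_fin]

/-! ### The quadratic generators of the ideals -/

/-- coordinates for the generators `x_0 x_i` -/
abbrev CooP (n : ℕ) : Type := Fin n ⊕ Fin n

def giP (hn : 1 ≤ n) : CooP n → Fin n := Sum.elim id (fun _ => ⟨n - 1, by omega⟩)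

def alP : CooP n → Fin (n + 1) → ℤ := Sum.elim (fun i => ee n - ee i.val) (fun m => ee (m.val + 1) - ee 0)

theorem sum_alP (p : CooP n) : ∑ t, alP p t = 0 := by
  rcases p with i | m
  · simp only [alP, Sum.elim_inl, Pi.sub_apply]
    rw [Finset.sum_sub_distrib, sum_ee le_rfl, sum_ee (by omega), sub_self]
  · simp only [alP, Sum.elim_inr, Pi.sub_apply]
    rw [Finset.sum_sub_distrib, sum_ee (by omega), sum_ee (by omega), sub_self]

theorem surjP (hn : 3 ≤ n) (hq : 1 ≤ q) (hs1 : 1 ≤ s) (hs : s + 2 ≤ n) (p : CooP n) :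
    ∃ T : Set (Fin n ⊕ Fin s), (∀ i ∈ T, gB n q s i + alP p ∈ DD (IB n q s k)) ∧
      (∀ i ∈ T, ∀ j ∉ T, ∃ l, ∀ t, gB n q s l t ≤ (gB n q s i ⊔ gB n q s j + alP p) t) ∧
      Sum.inl (giP (by omega) p) ∈ T ∧ (∀ i, Sum.inr i ∉ T) ∧
      ∀ p', p' ≠ p → alP p' = alP p → Sum.inl (giP (by omega) p') ∉ T := by
  let z : Fin (n + 1) := ⟨0, by omega⟩
  let o : Fin (n + 1) := ⟨1, by omega⟩
  have hz : z.val = 0 := rfl
  have ho : o.val = 1 := rfl
  have hg := isGenB (q := q) (s := s) k (by omega : 1 ≤ n) (by omega)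
  rcases p with i | m
  · have hi := i.2
    refine ⟨{Sum.inl i}, ?_, ?_, rfl, (fun i hi => by cases hi), ?_⟩
    · rintro _ rfl
      refine (mem_DD_B k hq hs1 (by omega) hz ho _).2 ⟨fun t => ?_, Or.inr ⟨?_, fun t ht1 ht2 => ?_⟩⟩
      all_goals simp only [gB, alP, Sum.elim_inl, Pi.add_apply, Pi.sub_apply, PP, ee]
      all_goals omega
    · rintro _ rfl x hx
      rcases x with i' | j'
      · have hii' : i'.val ≠ i.val := fun h => hx (by rw [Fin.ext h]; rfl)
        refine ⟨Sum.inl i', fun t => ?_⟩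
        simp only [gB, alP, Sum.elim_inl, Pi.add_apply, Pi.sub_apply, Pi.sup_apply, PP, ee]
        omega
      · have hj' := j'.2
        by_cases hi1 : i.val = 1
        · refine ⟨Sum.inl ⟨j'.val + 1, by omega⟩, fun t => ?_⟩
          simp only [gB, alP, Sum.elim_inl, Sum.elim_inr, Pi.add_apply, Pi.sub_apply, Pi.sup_apply, PP, HH, ee]
          omega
        · refine ⟨Sum.inl ⟨1, by omega⟩, fun t => ?_⟩
          simp only [gB, alP, Sum.elim_inl, Sum.elim_inr, Pi.add_apply, Pi.sub_apply, Pi.sup_apply, PP, HH, ee]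
          omega
    · rintro (i' | m') hne hal hmem
      · have hmem' : (Sum.inl i' : Fin n ⊕ Fin s) = Sum.inl i := hmem
        rw [Sum.inl.injEq] at hmem'
        exact hne (by rw [hmem'])
      · have hmem' : (Sum.inl ⟨n - 1, by omega⟩ : Fin n ⊕ Fin s) = Sum.inl i := hmem
        rw [Sum.inl.injEq] at hmem'
        have h1 : i.val = n - 1 := by rw [← hmem']
        have h2 := congrFun hal z
        simp only [alP, Sum.elim_inl, Sum.elim_inr, Pi.sub_apply, ee] at h2
        omega
  · have hm := m.2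
    refine ⟨{x | ∃ i : Fin n, x = Sum.inl i ∧ 1 ≤ i.val ∧ ee i.val + ee (m.val + 1) ∈ DD (IB n q s k)}, ?_, ?_,
      ⟨⟨n - 1, by omega⟩, rfl, by dsimp only; omega, ?_⟩, (fun i ⟨j, hj, _⟩ => by cases hj), ?_⟩
    · rintro _ ⟨i, rfl, hi1, hi⟩
      have : gB n q s (Sum.inl i) + alP (Sum.inr m : CooP n) = ee i.val + ee (m.val + 1) := by
        ext t
        simp only [gB, alP, Sum.elim_inl, Sum.elim_inr, Pi.add_apply, Pi.sub_apply, PP]
        ring
      rw [this]
      exact hi
    · rintro _ ⟨i, rfl, hi1, hi⟩ x hx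
      rcases x with i' | j'
      · by_cases hi0 : i'.val = 0
        · refine ⟨Sum.inl i, fun t => ?_⟩
          simp only [gB, alP, Sum.elim_inl, Sum.elim_inr, Pi.add_apply, Pi.sub_apply, Pi.sup_apply, PP, ee]
          omega
        · have h1 : ee i'.val + ee (m.val + 1) ∉ DD (IB n q s k) := fun h => hx ⟨i', rfl, by omega, h⟩
          have h2 : ∀ t, (0 : ℤ) ≤ (ee i'.val + ee (m.val + 1) : Fin (n + 1) → ℤ) t := fun t => by
            simp only [Pi.add_apply, ee]; omega
          obtain ⟨l, hl⟩ := (hg.mem_iff _).1 ((mem_UU_or_DD h2).resolve_right h1)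
          refine ⟨l, fun t => (hl t).trans ?_⟩
          simp only [gB, alP, Sum.elim_inl, Sum.elim_inr, Pi.add_apply, Pi.sub_apply, Pi.sup_apply, PP, ee]
          omega
      · have hj' := j'.2
        refine ⟨Sum.inr j', fun t => ?_⟩
        simp only [gB, alP, Sum.elim_inl, Sum.elim_inr, Pi.add_apply, Pi.sub_apply, Pi.sup_apply, PP, HH, ee]
        omega
    · refine (mem_DD_B k hq hs1 (by omega) hz ho _).2 ⟨fun t => ?_, Or.inl ⟨?_, ?_⟩⟩
      · simp only [Pi.add_apply, ee]; omega
      · simp only [Pi.add_apply, ee]; omega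
      · by_cases hm1 : m.val + 1 = 1 ∧ q = 1
        · right
          refine ⟨?_, fun t ht1 ht2 => ?_⟩
          all_goals simp only [Pi.add_apply, ee]
          all_goals omega
        · left
          simp only [Pi.add_apply, ee]; omega
    · rintro (i' | m') hne hal hmem
      · obtain ⟨i, hi, hi1, -⟩ := hmem
        have h1 : i' = i := Sum.inl.inj hi
        subst h1
        have h2 := congrFun hal z
        simp only [alP, Sum.elim_inl, Sum.elim_inr, Pi.sub_apply, ee] at h2
        omega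
      · have h1 := congrFun hal ⟨m.val + 1, by omega⟩
        simp only [alP, Sum.elim_inr, Pi.sub_apply, ee, if_true] at h1
        exact hne (by rw [Fin.ext (show m'.val = m.val by omega)])

/-- adding `x_{n-1}` keeps a monomial outside of the ideal if `s ≤ n - 2` -/
theorem add_last (hn : 3 ≤ n) (hq : 1 ≤ q) (hs1 : 1 ≤ s) (hs : s + 2 ≤ n) {z : Fin (n + 1)} (hz : z.val = 0)
    {γ : Fin (n + 1) → ℤ} (hγ : γ ∈ DD (IB n q s k)) (h0 : γ z = 0) (j : ℕ) (hj : s < j) (hj2 : 2 ≤ j) :
    γ + ee j ∈ DD (IB n q s k) := by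
  let o : Fin (n + 1) := ⟨1, by omega⟩
  have ho : o.val = 1 := rfl
  obtain ⟨hnn, hcase⟩ := (mem_DD_B k hq hs1 (by omega) hz ho _).1 hγ
  refine (mem_DD_B k hq hs1 (by omega) hz ho _).2 ⟨fun t => ?_, Or.inl ⟨?_, ?_⟩⟩
  · have := hnn t
    simp only [Pi.add_apply, ee]; omega
  · simp only [Pi.add_apply, ee]; omega
  · rcases hcase with ⟨-, h | ⟨h, h'⟩⟩ | ⟨h, -⟩
    · left
      simp only [Pi.add_apply, ee]; omega
    · right
      refine ⟨by simp only [Pi.add_apply, ee]; omega, fun t ht1 ht2 => ?_⟩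
      have := h' t ht1 ht2
      simp only [Pi.add_apply, ee]; omega
    · omega

/-- Injectivity for the quadratic generators: reduction to the monomials without `x_{n-1}`. -/
theorem injP (hn : 3 ≤ n) (hq : 1 ≤ q) (hs1 : 1 ≤ s) (hs : s + 2 ≤ n) {α : Fin (n + 1) → ℤ} (hα : ∑ t, α t = 0)
    {e : Fin n ⊕ Fin s → k} (he : IsCompat (IB n q s k) (gB n q s) α e)
    (h0 : ∀ p : CooP n, alP p = α → e (Sum.inl (giP (by omega) p)) = 0)
    (hlast : ∀ γ : Fin (n + 1) → ℤ, γ ∈ DD (IB n q s k) → γ ⟨0, by omega⟩ = 0 → γ ⟨n - 1, by omega⟩ = 0 → ∑ t, γ t = 2 →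
      γ = PP n ⟨n - 1, by omega⟩ + α → e (Sum.inl ⟨n - 1, by omega⟩) ≠ 0 →
      ∃ j : ℕ, 1 ≤ j ∧ j < n - 1 ∧ γ + ee j ∈ DD (IB n q s k))
    (i : Fin n) : e (Sum.inl i) = 0 := by
  by_contra hne
  have hn1 : n - 1 < n := by omega
  let z : Fin (n + 1) := ⟨0, by omega⟩
  have hz : z.val = 0 := rfl
  have hg := isGenB (q := q) (s := s) k (by omega : 1 ≤ n) (by omega)
  have hmem : PP n i + α ∈ DD (IB n q s k) := he.mem _ hne
  have hi := i.2
  rcases zero_le_one_of_mem hg hmem hz (by omega) with h1 | ⟨h1, h2⟩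
  · let u : Fin (n + 1) := ⟨i.val, by omega⟩
    have hu : u.val = i.val := rfl
    have hsum : ∑ t, (PP n i + α) t = 2 := by
      simp only [Pi.add_apply]
      rw [Finset.sum_add_distrib, sum_PP, hα, add_zero]
    by_cases hγu : (PP n i + α) u = 0
    · by_cases hin : i.val = n - 1
      · have hi' : i = ⟨n - 1, hn1⟩ := Fin.ext hin
        subst hi'
        obtain ⟨j, hj1, hj2, hj⟩ := hlast (PP n ⟨n - 1, hn1⟩ + α) hmem h1 hγu hsum rfl hne
        exact hne (eq_zero_of_link hg he _ ⟨j, by omega⟩ (fun h => by have := congrArg Fin.val h; dsimp only at this; omega)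
          hj1 hj hu hγu)
      · exact hne (eq_zero_of_link hg he _ ⟨n - 1, by omega⟩ (fun h => hin (congrArg Fin.val h)) (by dsimp only; omega)
          (add_last k hn hq hs1 hs hz hmem h1 _ (by dsimp only; omega) (by dsimp only; omega)) hu hγu)
    · obtain ⟨m, hm, hαm⟩ := target_of_pos hα i hmem.1 hu hγu
      have hm1 : 1 ≤ m := by
        by_contra hcon
        have hm0 : m = 0 := by omega
        rw [hαm, hm0, sub_self, add_zero] at h1
        simp only [PP, ee, Pi.add_apply] at h1
        omega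
      have hco := h0 (Sum.inr ⟨m - 1, by omega⟩) (by
        rw [hαm]
        simp only [alP, Sum.elim_inr, show m - 1 + 1 = m by omega])
      have hco' : e (Sum.inl ⟨n - 1, by omega⟩) = 0 := hco
      by_cases hin : i.val = n - 1
      · have hi' : i = ⟨n - 1, by omega⟩ := Fin.ext hin
        rw [hi'] at hne
        exact hne hco'
      · rw [link hg he i ⟨n - 1, by omega⟩ (fun h => hin (congrArg Fin.val h)) (by dsimp only; omega)
          (add_last k hn hq hs1 hs hz hmem h1 _ (by dsimp only; omega) (by dsimp only; omega))] at hne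
        exact hne hco'
  · have hαi := target_zero i hα hz h1 h2
    exact hne (h0 (Sum.inl i) (by rw [hαi]; rfl))

/-- The general two-block family. -/
theorem main47 (r : ℕ) (hn : 4 ≤ n) (hq : 1 ≤ q) (hr : r + 3 ≤ n) (hcase : 2 ≤ r ∨ (r = 1 ∧ 3 ≤ q)) :
    Module.finrank k ↥(⨆ α : {α : Fin (n + 1) → ℤ | ∑ i, α i = 0}, tPiece (IB n q (n - r - 1) k) (α : Fin (n + 1) → ℤ)) =
      3 * n - 1 + (n - r - 2) * (r + 1) + Nat.choose (n + q - 1) (n - 1) := by
  set s := n - r - 1 with hs
  have hg := isGenB (q := q) (s := s) k (by omega : 1 ≤ n) (by omega)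
  have hcard : Fintype.card (CooP n ⊕ CooG n q s) = 3 * n - 1 + (n - r - 2) * (r + 1) + Nat.choose (n + q - 1) (n - 1) := by
    rw [Fintype.card_sum, card_CooG (by omega), Fintype.card_sum, Fintype.card_fin]
    have hC : 1 ≤ Nat.choose (n + q - 1) (n - 1) := Nat.choose_pos (by omega)
    obtain ⟨c, hc⟩ : ∃ c, Nat.choose (n + q - 1) (n - 1) = c + 1 := ⟨_, (Nat.sub_add_cancel hC).symm⟩
    obtain ⟨a, ha⟩ : ∃ a, n = a + r + 2 := ⟨n - r - 2, by omega⟩
    have e1 : s = a + 1 := by omega
    have e2 : n - s = r + 1 := by omega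
    have e3 : n - r - 2 = a := by omega
    rw [hc, e2, e1, e3]
    have e4 : 3 * n - 1 = 3 * a + 3 * r + 5 := by omega
    rw [e4, Nat.add_sub_cancel, ha]
    ring
  rw [← hcard]
  refine finrank_iSup_ind hg _
    (gi := Sum.elim (fun p => Sum.inl (giP (by omega) p)) (fun p => Sum.inr (giG (by omega) p)))
    (al := Sum.elim alP alG) ?_ ?_ ?_
  · rintro (p | p)
    · exact sum_alP p
    · exact sum_alG (by omega) (by omega) p
  · intro α hα e he h0
    have hα' : ∑ t, α t = 0 := hα
    rintro (i | j)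
    · refine injP k (by omega) hq (by omega) (by omega) hα' he (fun p hp => h0 (Sum.inl p) hp) ?_ i
      intro γ hγ hz hl hsum _ _
      rcases hcase with hr2 | ⟨hr1, hq3⟩
      · exact ⟨n - 2, by omega, by omega, add_last k (by omega) hq (by omega) (by omega) rfl hγ hz _ (by omega) (by omega)⟩
      · refine ⟨2, by omega, by omega, ?_⟩
        have h2 : γ ⟨1, by omega⟩ ≤ 2 := by
          rw [← hsum]
          exact Finset.single_le_sum (f := γ) (fun t _ => hγ.1 t) (Finset.mem_univ _)
        refine (mem_DD_B k hq (by omega) (by omega) (z := ⟨0, by omega⟩) (o := ⟨1, by omega⟩) rfl rfl _).2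
          ⟨fun t => ?_, Or.inl ⟨?_, Or.inl ?_⟩⟩
        · have := hγ.1 t
          simp only [Pi.add_apply, ee]; omega
        · simp only [Pi.add_apply, ee]; omega
        · simp only [Pi.add_apply, ee]; omega
    · exact injG k hq (by omega) (by omega) hα' he (fun p hp => h0 (Sum.inr p) hp) j
  · rintro (p | p)
    · obtain ⟨T, h1, h2, h3, h4, h5⟩ := surjP k (n := n) (q := q) (s := s) (by omega) hq (by omega) (by omega) p
      refine ⟨T, h1, h2, h3, ?_⟩
      rintro (p' | p') hne hal
      · exact h5 p' (fun h => hne (by rw [h])) hal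
      · exact h4 _
    · obtain ⟨T, h1, h2, h3, h4, h5⟩ := surjG k (n := n) (q := q) (s := s) hq (by omega) (by omega) p
      refine ⟨T, h1, h2, h3, ?_⟩
      rintro (p' | p') hne hal
      · exact h4 _
      · exact h5 p' (fun h => hne (by rw [h])) hal

end ideal

end K871.Borel
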