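import Groth.Agent.W4c1hilbpn.K871.Borel
import Mathlib.Tactic

set_option autoImplicit false

/-!
Degree zero homomorphisms: the special cases `q = 1`, `s = n - 2` and `q = 1`, `s = n - 1`.
-/

namespace K871.Borel

open MvPolynomial W4c1hilbpn K777.Basic K777.Model K777.Decomp K777.Colen K871.GenMdl K871.TwoPlanes

variable {n : ℕ} (k : Type*) [Field k]

/-- the extra degree -/
def alY (n : ℕ) (i : ℕ) : Fin (n + 1) → ℤ := ee 1 + ee n - ee 0 - ee i

theorem sum_alY (hn : 1 ≤ n) (i : ℕ) (hi : i ≤ n) : ∑ t, alY n i t = 0 := by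
  simp only [alY, Pi.add_apply, Pi.sub_apply]
  rw [Finset.sum_sub_distrib, Finset.sum_sub_distrib, Finset.sum_add_distrib, sum_ee hn, sum_ee le_rfl,
    sum_ee (by omega), sum_ee hi]
  rfl

/-- Case `q = 1`, `s = n - 2`. -/
theorem main48 (hn : 4 ≤ n) :
    Module.finrank k ↥(⨆ α : {α : Fin (n + 1) → ℤ | ∑ i, α i = 0}, tPiece (IB n 1 (n - 2) k) (α : Fin (n + 1) → ℤ)) =
      6 * n - 6 := by
  set s := n - 2 with hs
  have hg := isGenB (q := 1) (s := s) k (by omega : 1 ≤ n) (by omega)
  have hn1 : n - 1 < n := by omega
  have hcard : Fintype.card ((CooP n ⊕ Unit) ⊕ CooG n 1 s) = 6 * n - 6 := by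
    rw [Fintype.card_sum, card_CooG (by omega), Fintype.card_sum, Fintype.card_sum, Fintype.card_fin, Fintype.card_unit]
    have e0 : Nat.choose (n + 1 - 1) (n - 1) = n := by
      rw [Nat.add_sub_cancel]
      obtain ⟨a, rfl⟩ : ∃ a, n = a + 1 := ⟨n - 1, by omega⟩
      rw [Nat.add_sub_cancel, Nat.choose_succ_self_right]
    have e2 : n - s = 2 := by omega
    rw [e0, e2]
    omega
  rw [← hcard]
  refine finrank_iSup_ind hg _
    (gi := Sum.elim (Sum.elim (fun p => Sum.inl (giP (by omega) p)) (fun _ => Sum.inl ⟨n - 1, by omega⟩))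
      (fun p => Sum.inr (giG (by omega) p)))
    (al := Sum.elim (Sum.elim alP (fun _ => alY n (n - 1))) alG) ?_ ?_ ?_
  · rintro ((p | p) | p)
    · exact sum_alP p
    · exact sum_alY (by omega) _ (by omega)
    · exact sum_alG (by omega) (by omega) p
  · intro α hα e he h0
    have hα' : ∑ t, α t = 0 := hα
    rintro (i | j)
    · refine injP k (by omega) le_rfl (by omega) (by omega) hα' he (fun p hp => h0 (Sum.inl (Sum.inl p)) hp) ?_ i
      intro γ hγ hz hl hsum hγα hne
      let z : Fin (n + 1) := ⟨0, by omega⟩
      let o : Fin (n + 1) := ⟨1, by omega⟩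
      have hz' : z.val = 0 := rfl
      have ho : o.val = 1 := rfl
      have hγz : γ z = 0 := hz
      obtain ⟨hnn, hc⟩ := (mem_DD_B k le_rfl (by omega) (by omega) hz' ho _).1 hγ
      rcases hc with ⟨-, h | ⟨h, h'⟩⟩ | ⟨h, -⟩
      · refine ⟨2, by omega, by omega, ?_⟩
        refine (mem_DD_B k le_rfl (by omega) (by omega) hz' ho _).2 ⟨fun t => ?_, Or.inl ⟨?_, Or.inl ?_⟩⟩
        · have := hnn t
          simp only [Pi.add_apply, ee]; omega
        · simp only [Pi.add_apply, ee]; omega
        · simp only [Pi.add_apply, ee]; omega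
      · exfalso
        have h1 : γ o = 1 := by rw [h]; rfl
        obtain ⟨m, hm, hγm⟩ := eq_ee_of_sum_one (γ := γ - ee 1) (fun t => by
            have h1' := hnn t
            simp only [Pi.sub_apply, ee]
            by_cases ht : t.val = 1
            · have e : t = o := Fin.ext ht
              rw [if_pos ht, e]; omega
            · rw [if_neg ht]; omega) (by
            simp only [Pi.sub_apply]
            rw [Finset.sum_sub_distrib, hsum, sum_ee (by omega)]; rfl)
        have hmn : m = n := by
          by_contra hcon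
          have h3 := congrFun hγm ⟨m, by omega⟩
          simp only [Pi.sub_apply, ee, if_true] at h3
          rcases Nat.lt_or_ge m 2 with hm2 | hm2
          · rcases Nat.eq_zero_or_pos m with hm0 | hm0
            · have e : γ (⟨m, by omega⟩ : Fin (n + 1)) = γ z := congrArg γ (Fin.ext hm0)
              omega
            · have e : γ (⟨m, by omega⟩ : Fin (n + 1)) = γ o := congrArg γ (Fin.ext (by dsimp only; omega))
              omega
          · by_cases hmn1 : m = n - 1
            · have e : γ (⟨m, by omega⟩ : Fin (n + 1)) = γ ⟨n - 1, by omega⟩ := congrArg γ (Fin.ext hmn1)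
              omega
            · rw [h' ⟨m, by omega⟩ hm2 (by dsimp only; omega)] at h3
              omega
        have hco := h0 (Sum.inl (Sum.inr ())) (by
          ext t
          have h3 := congrFun hγm t
          have h4 := congrFun hγα t
          simp only [Pi.sub_apply, Pi.add_apply, PP, ee] at h3 h4
          simp only [Sum.elim_inr, Sum.elim_inl, alY, Pi.sub_apply, Pi.add_apply, ee]
          omega)
        exact hne hco
      · omega
    · exact injG k le_rfl (by omega) (by omega) hα' he (fun p hp => h0 (Sum.inr p) hp) j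
  · rintro ((p | p) | p)
    · obtain ⟨T, h1, h2, h3, h4, h5⟩ := surjP k (n := n) (q := 1) (s := s) (by omega) le_rfl (by omega) (by omega) p
      refine ⟨T, h1, h2, h3, ?_⟩
      rintro ((p' | p') | p') hne hal
      · exact h5 p' (fun h => hne (by rw [h])) hal
      · exfalso
        have h6 := congrFun hal ⟨0, by omega⟩
        have h7 := congrFun hal ⟨n - 1, by omega⟩
        rcases p with p | p
        · have := p.2
          simp only [Sum.elim_inr, Sum.elim_inl, alP, alY, Pi.sub_apply, Pi.add_apply, ee, if_true] at h6 h7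
          omega
        · have := p.2
          simp only [Sum.elim_inr, Sum.elim_inl, alP, alY, Pi.sub_apply, Pi.add_apply, ee, if_true] at h6 h7
          omega
      · exact h4 _
    · let last : Fin n := ⟨n - 1, hn1⟩
      have hlast : last.val = n - 1 := rfl
      refine ⟨({Sum.inl last} : Set (Fin n ⊕ Fin s)), ?_, ?_, rfl, ?_⟩
      · rintro _ rfl
        refine (mem_DD_B k le_rfl (by omega) (by omega) (z := ⟨0, by omega⟩) (o := ⟨1, by omega⟩) rfl rfl _).2
          ⟨fun t => ?_, Or.inl ⟨?_, Or.inr ⟨?_, fun t ht1 ht2 => ?_⟩⟩⟩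
        all_goals simp only [gB, alY, Sum.elim_inl, Sum.elim_inr, Pi.add_apply, Pi.sub_apply, PP, ee, hlast, if_true]
        all_goals omega
      · rintro _ rfl x hx
        rcases x with i' | j'
        · have hii' : i'.val ≠ n - 1 := fun h => hx (by
            have : i' = last := Fin.ext h
            rw [this]; rfl)
          have hi' := i'.2
          by_cases hi0 : i'.val = 0
          · refine ⟨Sum.inl ⟨1, by omega⟩, fun t => ?_⟩
            simp only [gB, alY, Sum.elim_inl, Sum.elim_inr, Pi.add_apply, Pi.sub_apply, Pi.sup_apply, PP, HH, ee]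
            omega
          · refine ⟨Sum.inr ⟨i'.val - 1, by omega⟩, fun t => ?_⟩
            simp only [gB, alY, Sum.elim_inl, Sum.elim_inr, Pi.add_apply, Pi.sub_apply, Pi.sup_apply, PP, HH, ee]
            omega
        · have hj' := j'.2
          refine ⟨Sum.inr j', fun t => ?_⟩
          simp only [gB, alY, Sum.elim_inl, Sum.elim_inr, Pi.add_apply, Pi.sub_apply, Pi.sup_apply, PP, HH, ee]
          omega
      · rintro ((p' | p') | p') hne hal
        · exfalso
          have h6 := congrFun hal ⟨0, by omega⟩
          have h7 := congrFun hal ⟨n - 1, by omega⟩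
          rcases p' with p' | p'
          · have := p'.2
            simp only [Sum.elim_inr, Sum.elim_inl, alP, alY, Pi.sub_apply, Pi.add_apply, ee, if_true] at h6 h7
            omega
          · have := p'.2
            simp only [Sum.elim_inr, Sum.elim_inl, alP, alY, Pi.sub_apply, Pi.add_apply, ee, if_true] at h6 h7
            omega
        · exact absurd rfl hne
        · intro h; cases h
    · obtain ⟨T, h1, h2, h3, h4, h5⟩ := surjG k (n := n) (q := 1) (s := s) le_rfl (by omega) (by omega) p
      refine ⟨T, h1, h2, h3, ?_⟩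
      rintro ((p' | p') | p') hne hal
      · exact h4 _
      · exact h4 _
      · exact h5 p' (fun h => hne (by rw [h])) hal

end K871.Borel
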