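import Groth.Agent.W4c1hilbpn.K871.Borel2
import Mathlib.Tactic

set_option autoImplicit false

/-!
Degree zero homomorphisms: the special case `q = 1`, `s = n - 1`.
-/

namespace K871.Borel

open MvPolynomial W4c1hilbpn K777.Basic K777.Model K777.Decomp K777.Colen K871.GenMdl K871.TwoPlanes

variable {n : ℕ} (k : Type*) [Field k]

/-! ### Case `q = 1`, `s = n - 1` -/

/-- coordinates for the generators `x_0 x_i` -/
abbrev CooP' (n : ℕ) : Type := (Fin n ⊕ Fin n) ⊕ Fin (n - 1)

def giP' (hn : 3 ≤ n) : CooP' n → Fin n := Sum.elim (Sum.elim id id) (fun _ => ⟨2, by omega⟩)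

def alP' : CooP' n → Fin (n + 1) → ℤ :=
  Sum.elim (Sum.elim (fun i => ee n - ee i.val) (fun i => alY n i.val)) (fun m => ee (m.val + 2) - ee 0)

theorem sum_alP' (hn : 1 ≤ n) (p : CooP' n) : ∑ t, alP' p t = 0 := by
  rcases p with (i | i) | m
  · simp only [alP', Sum.elim_inl, Pi.sub_apply]
    rw [Finset.sum_sub_distrib, sum_ee le_rfl, sum_ee (by omega), sub_self]
  · exact sum_alY hn _ (by omega)
  · simp only [alP', Sum.elim_inr, Pi.sub_apply]
    rw [Finset.sum_sub_distrib, sum_ee (by omega), sum_ee (by omega), sub_self]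

theorem surjP' (hn : 3 ≤ n) (p : CooP' n) :
    ∃ T : Set (Fin n ⊕ Fin (n - 1)), (∀ i ∈ T, gB n 1 (n - 1) i + alP' p ∈ DD (IB n 1 (n - 1) k)) ∧
      (∀ i ∈ T, ∀ j ∉ T, ∃ l, ∀ t, gB n 1 (n - 1) l t ≤ (gB n 1 (n - 1) i ⊔ gB n 1 (n - 1) j + alP' p) t) ∧
      Sum.inl (giP' hn p) ∈ T ∧ (∀ i, Sum.inr i ∉ T) ∧
      ∀ p', p' ≠ p → alP' p' = alP' p → Sum.inl (giP' hn p') ∉ T := by
  let z : Fin (n + 1) := ⟨0, by omega⟩
  let o : Fin (n + 1) := ⟨1, by omega⟩
  have hz : z.val = 0 := rfl
  have ho : o.val = 1 := rfl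
  rcases p with (i | i) | m
  · have hi := i.2
    refine ⟨{Sum.inl i}, ?_, ?_, rfl, (fun i hi => by cases hi), ?_⟩
    · rintro _ rfl
      refine (mem_DD_B k le_rfl (by omega) (by omega) hz ho _).2 ⟨fun t => ?_, Or.inr ⟨?_, fun t ht1 ht2 => ?_⟩⟩
      all_goals simp only [gB, alP', Sum.elim_inl, Pi.add_apply, Pi.sub_apply, PP, ee]
      all_goals omega
    · rintro _ rfl x hx
      rcases x with i' | j'
      · have hii' : i'.val ≠ i.val := fun h => hx (by rw [Fin.ext h]; rfl)
        refine ⟨Sum.inl i', fun t => ?_⟩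
        simp only [gB, alP', Sum.elim_inl, Pi.add_apply, Pi.sub_apply, Pi.sup_apply, PP, ee]
        omega
      · have hj' := j'.2
        by_cases hi1 : i.val = 1
        · refine ⟨Sum.inl ⟨j'.val + 1, by omega⟩, fun t => ?_⟩
          simp only [gB, alP', Sum.elim_inl, Sum.elim_inr, Pi.add_apply, Pi.sub_apply, Pi.sup_apply, PP, HH, ee]
          omega
        · refine ⟨Sum.inl ⟨1, by omega⟩, fun t => ?_⟩
          simp only [gB, alP', Sum.elim_inl, Sum.elim_inr, Pi.add_apply, Pi.sub_apply, Pi.sup_apply, PP, HH, ee]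
          omega
    · rintro ((i' | i') | m') hne hal hmem
      · have hmem' : (Sum.inl i' : Fin n ⊕ Fin (n - 1)) = Sum.inl i := hmem
        rw [Sum.inl.injEq] at hmem'
        exact hne (by rw [hmem'])
      · have hmem' : (Sum.inl i' : Fin n ⊕ Fin (n - 1)) = Sum.inl i := hmem
        rw [Sum.inl.injEq] at hmem'
        subst hmem'
        have h2 := congrFun hal z
        simp only [alP', alY, Sum.elim_inl, Sum.elim_inr, Pi.sub_apply, Pi.add_apply, ee] at h2
        omega
      · have hmem' : (Sum.inl ⟨2, by omega⟩ : Fin n ⊕ Fin (n - 1)) = Sum.inl i := hmem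
        rw [Sum.inl.injEq] at hmem'
        have h1 : i.val = 2 := by rw [← hmem']
        have h2 := congrFun hal z
        simp only [alP', Sum.elim_inl, Sum.elim_inr, Pi.sub_apply, ee] at h2
        omega
  · have hi := i.2
    refine ⟨{Sum.inl i}, ?_, ?_, rfl, (fun i hi => by cases hi), ?_⟩
    · rintro _ rfl
      refine (mem_DD_B k le_rfl (by omega) (by omega) hz ho _).2
        ⟨fun t => ?_, Or.inl ⟨?_, Or.inr ⟨?_, fun t ht1 ht2 => ?_⟩⟩⟩
      all_goals simp only [gB, alP', alY, Sum.elim_inl, Sum.elim_inr, Pi.add_apply, Pi.sub_apply, PP, ee, if_true]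
      all_goals omega
    · rintro _ rfl x hx
      rcases x with i' | j'
      · have hii' : i'.val ≠ i.val := fun h => hx (by rw [Fin.ext h]; rfl)
        by_cases hi0 : i'.val = 0
        · refine ⟨Sum.inl ⟨1, by omega⟩, fun t => ?_⟩
          simp only [gB, alP', alY, Sum.elim_inl, Sum.elim_inr, Pi.add_apply, Pi.sub_apply, Pi.sup_apply, PP, HH, ee]
          omega
        · refine ⟨Sum.inr ⟨i'.val - 1, by omega⟩, fun t => ?_⟩
          simp only [gB, alP', alY, Sum.elim_inl, Sum.elim_inr, Pi.add_apply, Pi.sub_apply, Pi.sup_apply, PP, HH, ee]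
          omega
      · have hj' := j'.2
        by_cases hij : j'.val + 1 = i.val
        · refine ⟨Sum.inr ⟨0, by omega⟩, fun t => ?_⟩
          simp only [gB, alP', alY, Sum.elim_inl, Sum.elim_inr, Pi.add_apply, Pi.sub_apply, Pi.sup_apply, PP, HH, ee]
          omega
        · refine ⟨Sum.inr j', fun t => ?_⟩
          simp only [gB, alP', alY, Sum.elim_inl, Sum.elim_inr, Pi.add_apply, Pi.sub_apply, Pi.sup_apply, PP, HH, ee]
          omega
    · rintro ((i' | i') | m') hne hal hmem
      · have hmem' : (Sum.inl i' : Fin n ⊕ Fin (n - 1)) = Sum.inl i := hmem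
        rw [Sum.inl.injEq] at hmem'
        subst hmem'
        have h2 := congrFun hal z
        simp only [alP', alY, Sum.elim_inl, Sum.elim_inr, Pi.sub_apply, Pi.add_apply, ee] at h2
        omega
      · have hmem' : (Sum.inl i' : Fin n ⊕ Fin (n - 1)) = Sum.inl i := hmem
        rw [Sum.inl.injEq] at hmem'
        exact hne (by rw [hmem'])
      · have hmem' : (Sum.inl ⟨2, by omega⟩ : Fin n ⊕ Fin (n - 1)) = Sum.inl i := hmem
        rw [Sum.inl.injEq] at hmem'
        have h1 : i.val = 2 := by rw [← hmem']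
        have h2 := congrFun hal ⟨2, by omega⟩
        simp only [alP', alY, Sum.elim_inl, Sum.elim_inr, Pi.sub_apply, Pi.add_apply, ee] at h2
        omega
  · have hm := m.2
    refine ⟨{x | ∃ i : Fin n, x = Sum.inl i ∧ 2 ≤ i.val}, ?_, ?_, ⟨⟨2, by omega⟩, rfl, le_rfl⟩,
      (fun i ⟨j, hj, _⟩ => by cases hj), ?_⟩
    · rintro _ ⟨i, rfl, hi1⟩
      have hi := i.2
      refine (mem_DD_B k le_rfl (by omega) (by omega) hz ho _).2 ⟨fun t => ?_, Or.inl ⟨?_, Or.inl ?_⟩⟩
      all_goals simp only [gB, alP', Sum.elim_inl, Sum.elim_inr, Pi.add_apply, Pi.sub_apply, PP, ee, if_true]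
      all_goals omega
    · rintro _ ⟨i, rfl, hi1⟩ x hx
      have hi := i.2
      rcases x with i' | j'
      · have hi' : ¬ 2 ≤ i'.val := fun h => hx ⟨i', rfl, h⟩
        by_cases hi0 : i'.val = 0
        · refine ⟨Sum.inl i, fun t => ?_⟩
          simp only [gB, alP', Sum.elim_inl, Sum.elim_inr, Pi.add_apply, Pi.sub_apply, Pi.sup_apply, PP, ee]
          omega
        · refine ⟨Sum.inr ⟨i.val - 1, by omega⟩, fun t => ?_⟩
          simp only [gB, alP', Sum.elim_inl, Sum.elim_inr, Pi.add_apply, Pi.sub_apply, Pi.sup_apply, PP, HH, ee]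
          omega
      · have hj' := j'.2
        refine ⟨Sum.inr j', fun t => ?_⟩
        simp only [gB, alP', Sum.elim_inl, Sum.elim_inr, Pi.add_apply, Pi.sub_apply, Pi.sup_apply, PP, HH, ee]
        omega
    · rintro ((i' | i') | m') hne hal hmem
      · obtain ⟨i, hi, hi1⟩ := hmem
        have h1 : i' = i := Sum.inl.inj hi
        subst h1
        have h2 := congrFun hal z
        simp only [alP', Sum.elim_inl, Sum.elim_inr, Pi.sub_apply, ee] at h2
        omega
      · obtain ⟨i, hi, hi1⟩ := hmem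
        have h1 : i' = i := Sum.inl.inj hi
        subst h1
        have hi2 := i'.2
        have h2 := congrFun hal ⟨i'.val, by omega⟩
        simp only [alP', alY, Sum.elim_inl, Sum.elim_inr, Pi.sub_apply, Pi.add_apply, ee, if_true] at h2
        omega
      · have h1 := congrFun hal ⟨m.val + 2, by omega⟩
        simp only [alP', Sum.elim_inr, Pi.sub_apply, ee, if_true] at h1
        exact hne (by rw [Fin.ext (show m'.val = m.val by omega)])

theorem injP' (hn : 3 ≤ n) {α : Fin (n + 1) → ℤ} (hα : ∑ t, α t = 0)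
    {e : Fin n ⊕ Fin (n - 1) → k} (he : IsCompat (IB n 1 (n - 1) k) (gB n 1 (n - 1)) α e)
    (h0 : ∀ p : CooP' n, alP' p = α → e (Sum.inl (giP' hn p)) = 0)
    (i : Fin n) : e (Sum.inl i) = 0 := by
  by_contra hne
  let z : Fin (n + 1) := ⟨0, by omega⟩
  let o : Fin (n + 1) := ⟨1, by omega⟩
  have hz : z.val = 0 := rfl
  have ho : o.val = 1 := rfl
  have hg := isGenB (q := 1) (s := n - 1) k (by omega : 1 ≤ n) (by omega)
  have hmem : PP n i + α ∈ DD (IB n 1 (n - 1) k) := he.mem _ hne
  have hi := i.2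
  have hsum : ∑ t, (PP n i + α) t = 2 := by
    simp only [Pi.add_apply]
    rw [Finset.sum_add_distrib, sum_PP, hα, add_zero]
  obtain ⟨hnn, hc⟩ := (mem_DD_B k le_rfl (by omega) (by omega) hz ho _).1 hmem
  set γ := PP n i + α with hγ
  have hαγ : ∀ t, α t = γ t - PP n i t := fun t => by rw [hγ]; simp
  rcases hc with ⟨hz0, h | ⟨h, h'⟩⟩ | ⟨h1, h2⟩
  · -- no `x_1`
    have hadd : ∀ j : ℕ, 2 ≤ j → γ + ee j ∈ DD (IB n 1 (n - 1) k) := by
      intro j hj
      refine (mem_DD_B k le_rfl (by omega) (by omega) hz ho _).2 ⟨fun t => ?_, Or.inl ⟨?_, Or.inl ?_⟩⟩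
      · have := hnn t
        simp only [Pi.add_apply, ee]; omega
      · simp only [Pi.add_apply, ee]; omega
      · simp only [Pi.add_apply, ee]; omega
    let u : Fin (n + 1) := ⟨i.val, by omega⟩
    have hu : u.val = i.val := rfl
    by_cases hγu : γ u = 0
    · by_cases hi2 : i.val = 2
      · by_cases hn3 : n = 3
        · refine hne (eq_zero_of_link hg he i ⟨1, by omega⟩ (fun h => by
            have := congrArg Fin.val h; dsimp only at this; omega) le_rfl ?_ hu hγu)
          rw [← hγ]
          refine (mem_DD_B k le_rfl (by omega) (by omega) hz ho _).2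
            ⟨fun t => ?_, Or.inl ⟨?_, Or.inr ⟨?_, fun t ht1 ht2 => ?_⟩⟩⟩
          · have := hnn t
            simp only [Pi.add_apply, ee]; omega
          · simp only [Pi.add_apply, ee]; omega
          · have := hnn o
            simp only [Pi.add_apply, ee]
            rw [if_pos ho]
            omega
          · have : t = u := Fin.ext (by omega)
            rw [this]
            simp only [Pi.add_apply, ee]; omega
        · exact hne (eq_zero_of_link hg he i ⟨3, by omega⟩ (fun h => by
            have := congrArg Fin.val h; dsimp only at this; omega) (by dsimp only; omega) (hadd 3 (by omega)) hu hγu)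
      · exact hne (eq_zero_of_link hg he i ⟨2, by omega⟩ (fun h => by
            have := congrArg Fin.val h; dsimp only at this; omega) (by dsimp only; omega) (hadd 2 le_rfl) hu hγu)
    · obtain ⟨m, hm, hαm⟩ := target_of_pos hα i hnn hu hγu
      have hm1 : 2 ≤ m := by
        by_contra hcon
        rcases Nat.eq_zero_or_pos m with hm0 | hm0
        · have h3 : γ z = PP n i z := by rw [hγ, hαm, hm0]; simp
          rw [hz0] at h3
          simp only [PP, ee, Pi.add_apply] at h3
          omega
        · have hm1 : m = 1 := by omega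
          have h3 : γ o = PP n i o + 1 := by
            rw [hγ, hαm, hm1]
            simp only [PP, ee, Pi.add_apply, Pi.sub_apply]
            omega
          have h4 : (0 : ℤ) ≤ PP n i o := by
            simp only [PP, ee, Pi.add_apply]; omega
          omega
      have hco := h0 (Sum.inr ⟨m - 2, by omega⟩) (by
        rw [hαm]
        simp only [alP', Sum.elim_inr, show m - 2 + 2 = m by omega])
      have hco' : e (Sum.inl ⟨2, by omega⟩) = 0 := hco
      by_cases hin : i.val = 2
      · have hi' : i = ⟨2, by omega⟩ := Fin.ext hin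
        rw [hi'] at hne
        exact hne hco'
      · rw [link hg he i ⟨2, by omega⟩ (fun h => hin (congrArg Fin.val h)) (by dsimp only; omega)
          (hadd 2 le_rfl)] at hne
        exact hne hco'
  · -- `γ = e_1 + e_n`
    have h1 : γ o = 1 := by rw [h]; rfl
    obtain ⟨m, hm, hγm⟩ := eq_ee_of_sum_one (γ := γ - ee 1) (fun t => by
        have h1' := hnn t
        simp only [Pi.sub_apply, ee]
        by_cases ht : t.val = 1
        · have e : t = o := Fin.ext ht
          rw [if_pos ht, e]; omega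
        · rw [if_neg ht]; omega) (by
        simp only [Pi.sub_apply]
        rw [Finset.sum_sub_distrib, hsum, sum_ee (by omega)]; rfl)
    have hmn : m = n := by
      by_contra hcon
      have h3 := congrFun hγm ⟨m, by omega⟩
      simp only [Pi.sub_apply, ee, if_true] at h3
      rcases Nat.lt_or_ge m 2 with hm2 | hm2
      · rcases Nat.eq_zero_or_pos m with hm0 | hm0
        · have e : γ (⟨m, by omega⟩ : Fin (n + 1)) = γ z := congrArg γ (Fin.ext hm0)
          omega
        · have e : γ (⟨m, by omega⟩ : Fin (n + 1)) = γ o := congrArg γ (Fin.ext (by dsimp only; omega))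
          omega
      · rw [h' ⟨m, by omega⟩ hm2 (by dsimp only; omega)] at h3
        omega
    have hco := h0 (Sum.inl (Sum.inr i)) (by
      ext t
      have h3 := congrFun hγm t
      have h4 := hαγ t
      simp only [Pi.sub_apply, Pi.add_apply, PP, ee] at h3 h4
      simp only [alP', Sum.elim_inr, Sum.elim_inl, alY, Pi.sub_apply, Pi.add_apply, ee]
      omega)
    exact hne hco
  · have hαi := target_zero i hα hz h1 h2
    exact hne (h0 (Sum.inl (Sum.inl i)) (by rw [hαi]; rfl))

/-- Case `q = 1`, `s = n - 1`. -/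
theorem main49 (hn : 3 ≤ n) :
    Module.finrank k ↥(⨆ α : {α : Fin (n + 1) → ℤ | ∑ i, α i = 0}, tPiece (IB n 1 (n - 1) k) (α : Fin (n + 1) → ℤ)) =
      6 * n - 4 := by
  have hg := isGenB (q := 1) (s := n - 1) k (by omega : 1 ≤ n) (by omega)
  have hcard : Fintype.card (CooP' n ⊕ CooG n 1 (n - 1)) = 6 * n - 4 := by
    rw [Fintype.card_sum, card_CooG (by omega), Fintype.card_sum, Fintype.card_sum, Fintype.card_fin, Fintype.card_fin]
    have e0 : Nat.choose (n + 1 - 1) (n - 1) = n := by
      rw [Nat.add_sub_cancel]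
      obtain ⟨a, rfl⟩ : ∃ a, n = a + 1 := ⟨n - 1, by omega⟩
      rw [Nat.add_sub_cancel, Nat.choose_succ_self_right]
    have e2 : n - (n - 1) = 1 := by omega
    rw [e0, e2]
    omega
  rw [← hcard]
  refine finrank_iSup_ind hg _
    (gi := Sum.elim (fun p => Sum.inl (giP' hn p)) (fun p => Sum.inr (giG (by omega) p)))
    (al := Sum.elim alP' alG) ?_ ?_ ?_
  · rintro (p | p)
    · exact sum_alP' (by omega) p
    · exact sum_alG (by omega) (by omega) p
  · intro α hα e he h0
    have hα' : ∑ t, α t = 0 := hα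
    rintro (i | j)
    · exact injP' k hn hα' he (fun p hp => h0 (Sum.inl p) hp) i
    · exact injG k le_rfl (by omega) (by omega) hα' he (fun p hp => h0 (Sum.inr p) hp) j
  · rintro (p | p)
    · obtain ⟨T, h1, h2, h3, h4, h5⟩ := surjP' k hn p
      refine ⟨T, h1, h2, h3, ?_⟩
      rintro (p' | p') hne hal
      · exact h5 p' (fun h => hne (by rw [h])) hal
      · exact h4 _
    · obtain ⟨T, h1, h2, h3, h4, h5⟩ := surjG k (n := n) (q := 1) (s := n - 1) le_rfl (by omega) (by omega) p
      refine ⟨T, h1, h2, h3, ?_⟩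
      rintro (p' | p') hne hal
      · exact h4 _
      · exact h5 p' (fun h => hne (by rw [h])) hal

end K871.Borel
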