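import Groth.Agent.W4c1hilbpn.K777.Colen
import Mathlib.RingTheory.MvPolynomial.Ideal
import Mathlib.Tactic

set_option autoImplicit false

/-!
Graded pieces of `Hom (I, S/I)` for a monomial ideal in terms of values on generators, and a counting lemma for the
sum of the pieces over a set of degrees.
-/

namespace K871.GenMdl

open MvPolynomial W4c1hilbpn K777.Basic K777.Model K777.Decomp K777.Colen

variable {σ : Type*} [Finite σ] [DecidableEq σ] {k : Type*} [Field k] {I : Ideal (MvPolynomial σ k)}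

/-- `g` is a system of exponents (as integer vectors) of monomial generators of `I`. -/
structure IsGen (I : Ideal (MvPolynomial σ k)) {Γ : Type*} (g : Γ → σ → ℤ) : Prop where
  mono : IsMonomial I
  nonneg : ∀ i t, 0 ≤ g i t
  mem_iff : ∀ γ : σ → ℤ, γ ∈ UU I ↔ ∃ i, ∀ t, g i t ≤ γ t

/-- compatible values on the generators -/
structure IsCompat (I : Ideal (MvPolynomial σ k)) {Γ : Type*} (g : Γ → σ → ℤ) (α : σ → ℤ) (c : Γ → k) : Prop where
  mem : ∀ i, c i ≠ 0 → g i + α ∈ DD I
  eq : ∀ i j, g i ⊔ g j + α ∈ DD I → c i = c j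

variable {Γ : Type*} {g : Γ → σ → ℤ}

omit [DecidableEq σ] in
theorem IsGen.mem_UU (hg : IsGen I g) (i : Γ) : g i ∈ UU I := (hg.mem_iff _).2 ⟨i, fun _ => le_rfl⟩

theorem isCompat_of_mem (hg : IsGen I g) {α : σ → ℤ} {f : (σ → ℤ) → k} (hf : f ∈ Mdl I α) :
    IsCompat I g α (fun i => f (g i + α)) := by
  refine ⟨fun i hi => (hf.1 _ hi).1, fun i j hij => ?_⟩
  have h1 := mdl_const hf (γ := g i + α) (δ := g i ⊔ g j + α) (by rw [add_sub_cancel_right]; exact hg.mem_UU i) hij
    (fun t => by simp)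
  have h2 := mdl_const hf (γ := g j + α) (δ := g i ⊔ g j + α) (by rw [add_sub_cancel_right]; exact hg.mem_UU j) hij
    (fun t => by simp)
  exact h1.symm.trans h2

theorem eq_zero_of_gen (hg : IsGen I g) {α : σ → ℤ} {f : (σ → ℤ) → k} (hf : f ∈ Mdl I α)
    (h : ∀ i, f (g i + α) = 0) : f = 0 := by
  funext γ
  by_contra hne
  obtain ⟨h1, h2⟩ := hf.1 γ hne
  obtain ⟨i, hi⟩ := (hg.mem_iff _).1 h2
  have h3 := mdl_const hf (γ := g i + α) (δ := γ) (by rw [add_sub_cancel_right]; exact hg.mem_UU i) h1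
    (fun t => by have := hi t; simp only [Pi.sub_apply, Pi.add_apply] at *; omega)
  exact hne (h3.trans (h i))

open Classical in
/-- the function attached to compatible values -/
noncomputable def ext (I : Ideal (MvPolynomial σ k)) (g : Γ → σ → ℤ) (α : σ → ℤ) (c : Γ → k) (γ : σ → ℤ) : k :=
  if h : γ ∈ DD I ∧ ∃ i, ∀ t, g i t ≤ (γ - α) t then c h.2.choose else 0

omit [DecidableEq σ] in
theorem ext_eq {α : σ → ℤ} {c : Γ → k} (hc : IsCompat I g α c) {γ : σ → ℤ}
    (hγ : γ ∈ DD I) {i : Γ} (hi : ∀ t, g i t ≤ (γ - α) t) : ext I g α c γ = c i := by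
  have hex : ∃ i, ∀ t, g i t ≤ (γ - α) t := ⟨i, hi⟩
  rw [ext, dif_pos ⟨hγ, hex⟩]
  set j := hex.choose with hj
  have hj' := hex.choose_spec
  rw [← hj] at hj'
  by_cases h0 : ∀ t, 0 ≤ (g j ⊔ g i + α) t
  · apply hc.eq
    refine DD_down hγ (fun t => ?_) h0
    have h1 := hi t
    have h2 := hj' t
    simp only [Pi.sub_apply, Pi.add_apply, Pi.sup_apply] at *
    have := sup_le h2 h1
    omega
  · push Not at h0
    obtain ⟨t, ht⟩ := h0
    simp only [Pi.add_apply, Pi.sup_apply] at ht
    have h1 : c j = 0 := by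
      by_contra h
      have := (hc.mem j h).1 t
      simp only [Pi.add_apply] at this
      have h2 : g j t ≤ g j t ⊔ g i t := le_sup_left
      omega
    have h2 : c i = 0 := by
      by_contra h
      have := (hc.mem i h).1 t
      simp only [Pi.add_apply] at this
      have h2 : g i t ≤ g j t ⊔ g i t := le_sup_right
      omega
    rw [h1, h2]

theorem ext_mem (hg : IsGen I g) {α : σ → ℤ} {c : Γ → k} (hc : IsCompat I g α c) : ext I g α c ∈ Mdl I α := by
  constructor
  · intro γ hne
    rw [ext] at hne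
    split_ifs at hne with h
    · exact ⟨h.1, (hg.mem_iff _).2 h.2⟩
    · exact absurd rfl hne
  · intro γ i h1 h2
    obtain ⟨j, hj⟩ := (hg.mem_iff _).1 h1
    have hj' : ∀ t, g j t ≤ (γ + Pi.single i 1 - α : σ → ℤ) t := by
      intro t
      have := hj t
      have h3 : (0 : ℤ) ≤ (Pi.single i 1 : σ → ℤ) t := by
        by_cases ht : t = i
        · subst ht; simp
        · simp [Pi.single_apply, ht]
      simp only [Pi.sub_apply, Pi.add_apply] at *
      omega
    rw [ext_eq hc h2 hj']
    by_cases h0 : ∀ t, 0 ≤ γ t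
    · have h3 : γ ∈ DD I := by
        refine DD_down h2 (fun t => ?_) h0
        by_cases ht : t = i
        · subst ht; simp
        · simp [Pi.single_apply, ht]
      rw [ext_eq hc h3 hj]
    · have h3 : ext I g α c γ = 0 := by
        rw [ext, dif_neg]
        exact fun h => h0 h.1.1
      rw [h3]
      push Not at h0
      obtain ⟨t, ht⟩ := h0
      by_contra h4
      have h5 := (hc.mem j h4).1 t
      have h6 := hj t
      simp only [Pi.sub_apply, Pi.add_apply] at *
      omega

omit [DecidableEq σ] in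
theorem ext_gen {α : σ → ℤ} {c : Γ → k} (hc : IsCompat I g α c) (i : Γ) :
    ext I g α c (g i + α) = c i := by
  by_cases h : g i + α ∈ DD I
  · exact ext_eq hc h (fun t => by simp)
  · rw [ext, dif_neg (fun h' => h h'.1)]
    by_contra h'
    exact h (hc.mem i (Ne.symm h'))

/-- Indicator functions as compatible values. -/
theorem isCompat_indicator (hg : IsGen I g) {α : σ → ℤ} (T : Set Γ) [DecidablePred (· ∈ T)]
    (h1 : ∀ i ∈ T, g i + α ∈ DD I) (h2 : ∀ i ∈ T, ∀ j ∉ T, ∃ l, ∀ t, g l t ≤ (g i ⊔ g j + α) t) :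
    IsCompat I g α (fun i => if i ∈ T then (1 : k) else 0) := by
  constructor
  · intro i hi
    by_cases h : i ∈ T
    · exact h1 i h
    · simp [h] at hi
  · intro i j hij
    by_cases hi : i ∈ T
    · by_cases hj : j ∈ T
      · simp [hi, hj]
      · exact absurd hij (not_mem_DD ((hg.mem_iff _).2 (h2 i hi j hj)))
    · by_cases hj : j ∈ T
      · rw [sup_comm] at hij
        exact absurd hij (not_mem_DD ((hg.mem_iff _).2 (h2 j hj i hi)))
      · simp [hi, hj]

/-- members of the sum of the pieces over a set of degrees -/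
theorem co_of_mem_iSup (hI : IsMonomial I) (A : Set (σ → ℤ)) {φ : Tgt I}
    (h : φ ∈ ⨆ α : A, tPiece I (α : σ → ℤ)) (β γ : σ → ℤ) (hne : co hI φ β γ ≠ 0) : γ - β ∈ A := by
  let W : Submodule k (Tgt I) :=
    { carrier := {ψ | ∀ β γ, co hI ψ β γ ≠ 0 → γ - β ∈ A}
      zero_mem' := fun β γ h => absurd (co_zero' hI β γ) h
      add_mem' := by
        intro ψ χ hψ hχ β γ hne
        rw [co_add] at hne
        by_cases h1 : co hI ψ β γ = 0
        · by_cases h2 : co hI χ β γ = 0
          · rw [h1, h2, add_zero] at hne; exact absurd rfl hne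
          · exact hχ β γ h2
        · exact hψ β γ h1
      smul_mem' := by
        intro a ψ hψ β γ hne
        rw [co_smul] at hne
        exact hψ β γ (right_ne_zero_of_mul hne) }
  have h1 : (⨆ α : A, tPiece I (α : σ → ℤ)) ≤ W := by
    refine iSup_le fun α ψ hψ β γ hne => ?_
    have := (mem_tPiece_iff hI ψ α).1 hψ β γ hne
    rw [this, add_sub_cancel_left]
    exact α.2
  exact h1 h β γ hne

/-- The counting lemma. -/
theorem finrank_iSup (hg : IsGen I g) (A : Set (σ → ℤ)) {ι : Type*} [Fintype ι] (gi : ι → Γ) (al : ι → σ → ℤ)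
    (hA : ∀ p, al p ∈ A)
    (hinj : ∀ α ∈ A, ∀ c : Γ → k, IsCompat I g α c → (∀ p, al p = α → c (gi p) = 0) → ∀ i, c i = 0)
    (hsurj : ∀ p, ∃ c : Γ → k, IsCompat I g (al p) c ∧ c (gi p) = 1 ∧ ∀ p', p' ≠ p → al p' = al p → c (gi p') = 0) :
    Module.finrank k ↥(⨆ α : A, tPiece I (α : σ → ℤ)) = Fintype.card ι := by
  classical
  have hI := hg.mono
  let ev : ↥(⨆ α : A, tPiece I (α : σ → ℤ)) →ₗ[k] (ι → k) :=
    { toFun := fun φ p => co hI φ.1 (g (gi p)) (g (gi p) + al p)
      map_add' := fun φ ψ => by ext p; exact co_add hI _ _ _ _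
      map_smul' := fun a φ => by ext p; exact co_smul hI _ _ _ _ }
  have hev : ∀ φ p, ev φ p = co hI φ.1 (g (gi p)) (g (gi p) + al p) := fun _ _ => rfl
  have hinj' : Function.Injective ev := by
    rintro ⟨φ, hφ⟩ ⟨ψ, hψ⟩ h0
    have h1 : ∀ α ∈ A, ((fun γ => co hI φ (γ - α) γ) - (fun γ => co hI ψ (γ - α) γ) : (σ → ℤ) → k) = 0 := by
      intro α hα
      have hm := (Mdl I α).sub_mem (co_mem_Mdl hI α φ) (co_mem_Mdl hI α ψ)
      apply eq_zero_of_gen hg hm
      apply hinj α hα _ (isCompat_of_mem hg hm)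
      intro p hp
      have := congrFun h0 p
      rw [hev, hev] at this
      simp only [Pi.sub_apply, add_sub_cancel_right, ← hp]
      exact sub_eq_zero.2 this
    apply Subtype.ext
    apply co_ext hI
    intro β γ
    by_cases hA' : γ - β ∈ A
    · have h3 := congrFun (h1 _ hA') γ
      simp only [Pi.sub_apply, sub_sub_cancel] at h3
      exact sub_eq_zero.1 h3
    · have h4 : co hI φ β γ = 0 := by
        by_contra hne
        exact hA' (co_of_mem_iSup hI A hφ β γ hne)
      have h5 : co hI ψ β γ = 0 := by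
        by_contra hne
        exact hA' (co_of_mem_iSup hI A hψ β γ hne)
      exact h4.trans h5.symm
  have hsurj' : Function.Surjective ev := by
    rw [← LinearMap.range_eq_top, eq_top_iff, ← (Pi.basisFun k ι).span_eq, Submodule.span_le]
    rintro _ ⟨p, rfl⟩
    obtain ⟨c, hc, hc1, hc2⟩ := hsurj p
    have hm := ext_mem hg hc
    refine ⟨⟨ofMdl hI (al p) _ hm, ?_⟩, ?_⟩
    · exact Submodule.mem_iSup_of_mem (⟨al p, hA p⟩ : A) (ofMdl_mem hI (al p) _ hm)
    · ext p'
      rw [hev]
      simp only [Pi.basisFun_apply]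
      rw [co_ofMdl]
      by_cases h1 : al p' = al p
      · rw [if_pos (by rw [h1]), h1, ext_gen hc]
        by_cases h2 : p' = p
        · subst h2; rw [Pi.single_eq_same, hc1]
        · rw [Pi.single_eq_of_ne h2, hc2 p' h2 h1]
      · rw [if_neg (fun h => h1 (add_left_cancel h))]
        rw [Pi.single_eq_of_ne]
        rintro rfl
        exact h1 rfl
  rw [(LinearEquiv.ofBijective ev ⟨hinj', hsurj'⟩).finrank_eq, Module.finrank_fintype_fun_eq_card]

/-- Monomial ideals given by generators. -/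
theorem isGen_span (k : Type*) [Field k] (G : Γ → σ →₀ ℕ) :
    IsGen (Ideal.span (Set.range fun i => monomial (G i) (1 : k))) (fun i t => ((G i t : ℕ) : ℤ)) := by
  have h0 : (Set.range fun i => monomial (G i) (1 : k)) = (fun s => monomial s (1 : k)) '' (Set.range G) := by
    rw [← Set.range_comp]; rfl
  have hmem : ∀ β, β ∈ exps (Ideal.span (Set.range fun i => monomial (G i) (1 : k))) ↔ ∃ i, G i ≤ β := by
    classical
    intro β
    change monomial β (1 : k) ∈ Ideal.span (Set.range fun i => monomial (G i) (1 : k)) ↔ _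
    rw [h0, mem_ideal_span_monomial_image]
    rw [support_monomial, if_neg one_ne_zero]
    simp
  refine ⟨?_, fun i t => by positivity, fun γ => ?_⟩
  · intro p hp β hβ
    change β ∈ exps (Ideal.span (Set.range fun i => monomial (G i) (1 : k)))
    rw [hmem]
    rw [h0, mem_ideal_span_monomial_image] at hp
    obtain ⟨_, ⟨i, rfl⟩, hi⟩ := hp β hβ
    exact ⟨i, hi⟩
  · constructor
    · rintro ⟨h1, h2⟩
      rw [hmem] at h2
      obtain ⟨i, hi⟩ := h2
      refine ⟨i, fun t => ?_⟩
      have := hi t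
      have h3 := h1 t
      simp only [vn_apply] at this
      omega
    · rintro ⟨i, hi⟩
      have h1 : ∀ t, 0 ≤ γ t := fun t => le_trans (by positivity) (hi t)
      refine ⟨h1, ?_⟩
      rw [hmem]
      refine ⟨i, fun t => ?_⟩
      have := hi t
      simp only [vn_apply]
      omega

end K871.GenMdl
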