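import Mathlib.RingTheory.Length
import Mathlib.RingTheory.LocalRing.ResidueField.Basic
import Mathlib.Tactic

set_option autoImplicit false
universe u v

/-!
Duality into an Artinian quotient `A = R/Q` of a local ring whose socle is simple:
`length (X →ₗ A) = length X` for every finite module `X` killed by `Q`.
-/

namespace K871.SocDual

open IsLocalRing

section exact

variable {R : Type u} [CommRing R] {M₁ M₂ M₃ : Type v} [AddCommGroup M₁] [AddCommGroup M₂] [AddCommGroup M₃]
  [Module R M₁] [Module R M₂] [Module R M₃]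

/-- In an exact sequence `M₁ → M₂ → M₃` the length of the middle term is at most the sum of the others. -/
theorem length_le_of_exact (f : M₁ →ₗ[R] M₂) (g : M₂ →ₗ[R] M₃) (h : Function.Exact f g) :
    Module.length R M₂ ≤ Module.length R M₁ + Module.length R M₃ := by
  have h1 := Module.length_eq_add_of_exact (R := R) (LinearMap.ker g).subtype g.rangeRestrict
    (Submodule.injective_subtype _) g.surjective_rangeRestrict (by
      intro x
      simp only [LinearMap.mem_ker, Subtype.ext_iff, Submodule.coe_zero,
        Submodule.coe_subtype, Set.mem_range, Subtype.exists, exists_prop, exists_eq_right]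
      exact Iff.rfl)
  rw [h1]
  refine add_le_add ?_ (Module.length_le_of_injective (LinearMap.range g).subtype (Submodule.injective_subtype _))
  have h2 : LinearMap.ker g = LinearMap.range f := by
    ext x
    exact h x
  rw [h2]
  exact Module.length_le_of_surjective f.rangeRestrict f.surjective_rangeRestrict

end exact

section dual

variable {R : Type u} [CommRing R] [IsLocalRing R] (Q : Ideal R)

/-- Maps from a simple module into `R/Q`, when the socle of `R/Q` is generated by one element. -/
theorem length_hom_simple_le (s : R) (hs : ∀ t : R, (∀ r ∈ maximalIdeal R, r * t ∈ Q) → ∃ c, t - c * s ∈ Q)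
    (hs' : ∀ r ∈ maximalIdeal R, r * s ∈ Q)
    (S : Type u) [AddCommGroup S] [Module R S] [IsSimpleModule R S] :
    Module.length R (S →ₗ[R] (R ⧸ Q)) ≤ 1 := by
  obtain ⟨m, hm, ⟨e⟩⟩ := isSimpleModule_iff_quot_maximal.1 (inferInstance : IsSimpleModule R S)
  have hmm : m = maximalIdeal R := eq_maximalIdeal hm
  subst hmm
  let x : S := e.symm (Submodule.Quotient.mk 1)
  have hx : ∀ r ∈ maximalIdeal R, r • x = 0 := by
    intro r hr
    rw [← map_smul]
    have : r • (Submodule.Quotient.mk 1 : R ⧸ maximalIdeal R) = 0 := by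
      rw [← Submodule.Quotient.mk_smul, Submodule.Quotient.mk_eq_zero]
      simpa using hr
    rw [this, map_zero]
  have hgen : ∀ y : S, ∃ r : R, y = r • x := by
    intro y
    obtain ⟨r, hr⟩ := Submodule.Quotient.mk_surjective _ (e y)
    refine ⟨r, e.injective ?_⟩
    rw [map_smul, e.apply_symm_apply, ← hr, ← Submodule.Quotient.mk_smul]
    simp
  let sb : R ⧸ Q := Submodule.Quotient.mk s
  let ev : (S →ₗ[R] (R ⧸ Q)) →ₗ[R] (R ⧸ Q) := LinearMap.applyₗ x
  have hev : Function.Injective ev := by
    rw [← LinearMap.ker_eq_bot, LinearMap.ker_eq_bot']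
    intro f hf
    ext y
    obtain ⟨r, rfl⟩ := hgen y
    have : f x = 0 := hf
    rw [map_smul, this, smul_zero, LinearMap.zero_apply]
  have hrange : ∀ f, ev f ∈ LinearMap.range (LinearMap.toSpanSingleton R (R ⧸ Q) sb) := by
    intro f
    obtain ⟨t, ht⟩ := Submodule.Quotient.mk_surjective _ (f x)
    have h1 : ∀ r ∈ maximalIdeal R, r * t ∈ Q := by
      intro r hr
      have : r • f x = 0 := by rw [← map_smul, hx r hr, map_zero]
      rw [← ht, ← Submodule.Quotient.mk_smul, Submodule.Quotient.mk_eq_zero] at this
      simpa using this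
    obtain ⟨c, hc⟩ := hs t h1
    refine ⟨c, ?_⟩
    change c • sb = f x
    rw [← ht, ← Submodule.Quotient.mk_smul]
    rw [eq_comm, Submodule.Quotient.eq]
    simpa using hc
  have h1 := Module.length_le_of_injective (R := R) (ev.codRestrict _ hrange)
    (by intro f g hfg; exact hev (congrArg Subtype.val hfg))
  refine h1.trans ?_
  have hle : maximalIdeal R ≤ LinearMap.ker (LinearMap.toSpanSingleton R (R ⧸ Q) sb) := by
    intro r hr
    rw [LinearMap.mem_ker, LinearMap.toSpanSingleton_apply, ← Submodule.Quotient.mk_smul,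
      Submodule.Quotient.mk_eq_zero]
    simpa using hs' r hr
  have h2 := Module.length_le_of_surjective (R := R)
    (((maximalIdeal R).liftQ (LinearMap.toSpanSingleton R (R ⧸ Q) sb) hle).rangeRestrict)
    (LinearMap.surjective_rangeRestrict _)
  rw [Submodule.range_liftQ] at h2
  refine h2.trans ?_
  have : IsSimpleModule R (R ⧸ maximalIdeal R) := by
    rw [isSimpleModule_iff_isCoatom]
    exact Ideal.isMaximal_def.1 (maximalIdeal.isMaximal R)
  rw [Module.length_eq_one]

variable {Q}

/-- Duality does not increase the length. -/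
theorem length_hom_le (s : R) (hs : ∀ t : R, (∀ r ∈ maximalIdeal R, r * t ∈ Q) → ∃ c, t - c * s ∈ Q)
    (hs' : ∀ r ∈ maximalIdeal R, r * s ∈ Q)
    (X : Type u) [AddCommGroup X] [Module R X] (hX : IsFiniteLength R X) :
    Module.length R (X →ₗ[R] (R ⧸ Q)) ≤ Module.length R X := by
  induction hX with
  | of_subsingleton =>
    rename_i M _ _ hM
    have : Subsingleton (M →ₗ[R] (R ⧸ Q)) := by
      refine ⟨fun f g => ?_⟩
      ext y
      rw [Subsingleton.elim y 0, map_zero, map_zero]
    rw [Module.length_eq_zero]
    exact bot_le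
  | of_simple_quotient hN ih =>
    rename_i M _ _ N hsimp
    have h1 := length_le_of_exact (R := R) (LinearMap.lcomp R (R ⧸ Q) N.mkQ)
      (LinearMap.lcomp R (R ⧸ Q) N.subtype) (by
        intro f
        constructor
        · intro hf
          refine ⟨N.liftQ f ?_, ?_⟩
          · intro x hx
            exact LinearMap.congr_fun hf ⟨x, hx⟩
          · ext x
            rfl
        · rintro ⟨g, rfl⟩
          ext x
          change g (Submodule.Quotient.mk (x : M)) = 0
          rw [(Submodule.Quotient.mk_eq_zero N).2 x.2, map_zero])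
    have h2 := length_hom_simple_le Q s hs hs' (M ⧸ N)
    have h3 := Module.length_eq_add_of_exact (R := R) N.subtype N.mkQ (Submodule.injective_subtype _)
      (Submodule.mkQ_surjective _) (by
        intro x
        simp)
    rw [h3, Module.length_eq_one R (M ⧸ N), add_comm]
    exact h1.trans (add_le_add h2 ih)

/-- Duality preserves the length of finite modules killed by `Q`. -/
theorem length_hom_eq [IsNoetherianRing R] (s : R)
    (hs : ∀ t : R, (∀ r ∈ maximalIdeal R, r * t ∈ Q) → ∃ c, t - c * s ∈ Q)
    (hs' : ∀ r ∈ maximalIdeal R, r * s ∈ Q) (hfin : Module.length R (R ⧸ Q) ≠ ⊤)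
    (X : Type u) [AddCommGroup X] [Module R X] [Module.Finite R X] (hX : ∀ q ∈ Q, ∀ x : X, q • x = 0) :
    Module.length R X ≠ ⊤ ∧ Module.length R (X →ₗ[R] (R ⧸ Q)) = Module.length R X := by
  obtain ⟨r, f, hf⟩ := Module.Finite.exists_fin' R X
  let g : (Fin r → R ⧸ Q) →ₗ[R] X := LinearMap.lsum R (fun _ => R ⧸ Q) R
    (fun i => Q.liftQ (LinearMap.toSpanSingleton R X (f (Pi.single i 1))) (by
      intro q hq
      rw [LinearMap.mem_ker, LinearMap.toSpanSingleton_apply]
      exact hX q hq _))
  have hg : Function.Surjective g := by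
    intro x
    obtain ⟨v, rfl⟩ := hf x
    refine ⟨fun i => Submodule.Quotient.mk (v i), ?_⟩
    conv_rhs => rw [← Finset.univ_sum_single v]
    simp only [g, LinearMap.lsum_apply, LinearMap.sum_apply, LinearMap.comp_apply, LinearMap.proj_apply, map_sum]
    refine Finset.sum_congr rfl fun i _ => ?_
    rw [Submodule.liftQ_apply, LinearMap.toSpanSingleton_apply, ← map_smul, ← Pi.single_smul]
    simp
  let Y := LinearMap.ker g
  have hAr : Module.length R (Fin r → R ⧸ Q) = r * Module.length R (R ⧸ Q) := by
    rw [Module.length_pi]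
    simp
  have hArfin : Module.length R (Fin r → R ⧸ Q) ≠ ⊤ := by
    rw [hAr]
    exact WithTop.mul_ne_top (ENat.natCast_ne_top r) hfin
  have h0 := Module.length_eq_add_of_exact (R := R) Y.subtype g (Submodule.injective_subtype _) hg (by
    intro x; simp [Y])
  have hYfin : Module.length R Y ≠ ⊤ := by
    intro h; rw [h, top_add] at h0; exact hArfin h0
  have hXfin : Module.length R X ≠ ⊤ := by
    intro h; rw [h, add_top] at h0; exact hArfin h0
  refine ⟨hXfin, le_antisymm (length_hom_le s hs hs' X (Module.length_ne_top_iff.1 hXfin)) ?_⟩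
  have hY := length_hom_le s hs hs' Y (Module.length_ne_top_iff.1 hYfin)
  have h1 := length_le_of_exact (R := R) (LinearMap.lcomp R (R ⧸ Q) g)
    (LinearMap.lcomp R (R ⧸ Q) Y.subtype) (by
      intro φ
      constructor
      · intro hφ
        have hle : Y ≤ LinearMap.ker φ := fun x hx => LinearMap.congr_fun hφ ⟨x, hx⟩
        refine ⟨(Y.liftQ φ hle).comp (g.quotKerEquivOfSurjective hg).symm.toLinearMap, ?_⟩
        · refine LinearMap.ext fun x => ?_
          change (Y.liftQ φ hle) ((g.quotKerEquivOfSurjective hg).symm (g x)) = φ x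
          have : (g.quotKerEquivOfSurjective hg).symm (g x) = Submodule.Quotient.mk x := by
            rw [LinearEquiv.symm_apply_eq]
            rfl
          rw [this, Submodule.liftQ_apply]
      · rintro ⟨ψ, rfl⟩
        ext1 x
        simp only [LinearMap.lcomp_apply, LinearMap.zero_apply]
        have : g (Y.subtype x) = 0 := x.2
        rw [this, map_zero])
  -- `Hom (A^r, A) ≃ A^r`
  have h2 : Module.length R (Fin r → R ⧸ Q) ≤ Module.length R ((Fin r → R ⧸ Q) →ₗ[R] (R ⧸ Q)) := by
    let F : ((Fin r → R ⧸ Q) →ₗ[R] (R ⧸ Q)) →ₗ[R] (Fin r → R ⧸ Q) :=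
      LinearMap.pi fun i => LinearMap.applyₗ (Pi.single i (Submodule.Quotient.mk 1))
    refine Module.length_le_of_surjective F fun t => ?_
    have hq : ∀ (q : R), q ∈ Q → ∀ t : R ⧸ Q, q • t = 0 := by
      intro q hq t
      obtain ⟨t, rfl⟩ := Submodule.Quotient.mk_surjective _ t
      rw [← Submodule.Quotient.mk_smul, Submodule.Quotient.mk_eq_zero]
      exact Ideal.mul_mem_right _ _ hq
    refine ⟨LinearMap.lsum R (fun _ => R ⧸ Q) R
      (fun i => Q.liftQ (LinearMap.toSpanSingleton R (R ⧸ Q) (t i)) (by
        intro q hq'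
        rw [LinearMap.mem_ker, LinearMap.toSpanSingleton_apply]
        exact hq q hq' _)), ?_⟩
    ext1 i
    simp only [F, LinearMap.pi_apply, LinearMap.applyₗ_apply_apply, LinearMap.lsum_apply, LinearMap.sum_apply,
      LinearMap.comp_apply, LinearMap.proj_apply]
    rw [Finset.sum_eq_single i]
    · rw [Pi.single_eq_same, Submodule.liftQ_apply, LinearMap.toSpanSingleton_apply, one_smul]
    · intro j _ hj
      rw [Pi.single_eq_of_ne hj, map_zero]
    · simp
  have h3 : Module.length R X + Module.length R Y ≤ Module.length R (X →ₗ[R] (R ⧸ Q)) + Module.length R Y := by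
    calc Module.length R X + Module.length R Y = Module.length R (Fin r → R ⧸ Q) := by rw [h0, add_comm]
      _ ≤ _ := h2
      _ ≤ _ := h1
      _ ≤ _ := by gcongr
  exact (ENat.add_le_add_iff_right hYfin).1 h3

end dual

end K871.SocDual
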