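import Groth.Agent.CalgA.RegBasic
import Groth.Agent.Ega2.RegLow
import Groth.Agent.W4c1hilbpn.K871.SocDual
import Mathlib.RingTheory.Regular.Free
import Mathlib.LinearAlgebra.FreeModule.PID
import Mathlib.LinearAlgebra.Dimension.Torsion.Finite
import Mathlib.Tactic

set_option autoImplicit false
universe u v

/-!
Regular local rings of dimension two: parameters, socle of `R/(x^N, y^N)`, resolutions of length one of ideals.
-/

namespace K871.Reg2

open IsLocalRing Groth.Agent
open scoped Pointwise

variable {R : Type u} [CommRing R] [IsRegularLocalRing R]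

theorem exists_params (hdim : ringKrullDim R = 2) :
    ∃ x y : R, Ideal.span {x, y} = maximalIdeal R := by
  have h2 : (maximalIdeal R).spanFinrank = 2 := by
    have := IsRegularLocalRing.spanFinrank_maximalIdeal (R := R)
    rw [hdim] at this
    exact_mod_cast this
  obtain ⟨s, hs1, hs2⟩ := Submodule.FG.exists_span_finset_card_eq_spanFinrank
    (IsNoetherian.noetherian (maximalIdeal R))
  rw [h2] at hs1
  classical
  obtain ⟨x, y, hxy, rfl⟩ := Finset.card_eq_two.1 hs1
  refine ⟨x, y, ?_⟩
  rw [← hs2]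
  simp [Ideal.span]

theorem param_left (hdim : ringKrullDim R = 2) {x y : R} (hxy : Ideal.span {x, y} = maximalIdeal R) :
    Prime x ∧ ¬ x ∣ y ∧ IsPrincipalIdealRing (R ⧸ Ideal.span {x}) := by
  have hx : x ∈ maximalIdeal R := by rw [← hxy]; exact Ideal.subset_span (by simp)
  have hx2 : x ∉ maximalIdeal R ^ 2 := by
    apply CalgA.RegBasic.notMem_sq_of_generators x [y]
    · rw [hdim]; norm_num
    · rw [← hxy, Ideal.ofList]
      congr 1
      ext z
      simp
  obtain ⟨h1, h2⟩ := CalgA.RegBasic.quotient_of_notMem_sq x hx hx2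
  have hd : ringKrullDim (R ⧸ Ideal.span {x}) ≤ 1 := by
    obtain ⟨d, hd⟩ := CalgA.RegBasic.ringKrullDim_eq_natCast (R ⧸ Ideal.span {x})
    rw [hd, hdim] at h2
    have : d + 1 = 2 := by exact_mod_cast h2
    have : d = 1 := by omega
    rw [hd, this]
    norm_num
  have hne : x ≠ 0 := by
    rintro rfl
    exact hx2 (Ideal.zero_mem _)
  have hdom := CalgA.RegBasic.isDomain (R ⧸ Ideal.span {x})
  refine ⟨(Ideal.span_singleton_prime hne).1 ((Ideal.Quotient.isDomain_iff_prime _).1 hdom), ?_,
    Ega2.RegLow.isPrincipalIdealRing _ hd⟩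
  intro hy
  have h1 : Ideal.span {x} = maximalIdeal R := by
    rw [← hxy]
    apply le_antisymm
    · exact Ideal.span_mono (by simp)
    · rw [Ideal.span_le]
      rintro z (rfl | rfl)
      · exact Ideal.mem_span_singleton_self _
      · exact Ideal.mem_span_singleton.2 hy
  have h2 : (maximalIdeal R).spanFinrank ≤ 1 := by
    rw [← h1]
    exact (Submodule.spanFinrank_span_le_ncard_of_finite (Set.finite_singleton x)).trans (by simp)
  have h3 := IsRegularLocalRing.spanFinrank_maximalIdeal (R := R)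
  rw [hdim] at h3
  have : (maximalIdeal R).spanFinrank = 2 := by exact_mod_cast h3
  omega

/-- The kernel of a map from a finite free module into a torsion free module is free. -/
theorem free_ker (hdim : ringKrullDim R = 2) (n : ℕ) (π : (Fin n → R) →ₗ[R] R) :
    Module.Free R (LinearMap.ker π) := by
  have := CalgA.RegBasic.isDomain R
  obtain ⟨x, y, hxy⟩ := exists_params hdim
  obtain ⟨hx, -, hpid⟩ := param_left hdim hxy
  have hxm : x ∈ maximalIdeal R := by rw [← hxy]; exact Ideal.subset_span (by simp)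
  have hprime : (Ideal.span {x}).IsPrime := (Ideal.span_singleton_prime hx.ne_zero).2 hx
  have hdom : IsDomain (R ⧸ Ideal.span {x}) := Ideal.Quotient.isDomain _
  set K := LinearMap.ker π with hK
  have hfp : Module.FinitePresentation R K := Module.finitePresentation_of_finite R K
  have hreg : IsSMulRegular K x := by
    intro u v huv
    apply Subtype.ext
    have := congrArg Subtype.val huv
    simp only [Submodule.coe_smul] at this
    exact smul_right_injective _ hx.ne_zero this
  refine (Module.free_quotSMulTop_iff_free R K (x := x) ?_ hreg).1 ?_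
  · rw [IsLocalRing.jacobson_eq_maximalIdeal ⊥ bot_ne_top]
    exact hxm
  · let B := R ⧸ Ideal.span {x}
    have hfin : Module.Finite B (QuotSMulTop x K) := Module.Finite.of_restrictScalars_finite R B _
    have htf : Module.IsTorsionFree B (QuotSMulTop x K) := by
      refine ⟨fun b hb u v huv => ?_⟩
      have h0 : b • (u - v) = 0 := by rw [smul_sub]; exact sub_eq_zero.2 huv
      rw [← sub_eq_zero]
      obtain ⟨k, hk⟩ := Submodule.Quotient.mk_surjective _ (u - v)
      obtain ⟨r, rfl⟩ := Ideal.Quotient.mk_surjective b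
      rw [← hk] at h0 ⊢
      have hr : ¬ x ∣ r := fun h => hb.ne_zero (Ideal.Quotient.eq_zero_iff_mem.2 (Ideal.mem_span_singleton.2 h))
      have h1 : (Submodule.Quotient.mk (r • k) : QuotSMulTop x K) = 0 := h0
      rw [Submodule.Quotient.mk_eq_zero, Submodule.mem_smul_pointwise_iff_exists] at h1
      obtain ⟨k', -, hk'⟩ := h1
      have h2 : ∀ i, x ∣ (k : Fin n → R) i := by
        intro i
        have h3 := congrFun (congrArg Subtype.val hk') i
        have h4 : x * (k' : Fin n → R) i = r * (k : Fin n → R) i := h3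
        exact (hx.dvd_or_dvd ⟨_, h4.symm⟩).resolve_left hr
      choose f hf using h2
      have h5 : (k : Fin n → R) = x • f := by
        ext i
        exact hf i
      have h6 : f ∈ K := by
        have h7 : π (x • f) = 0 := by rw [← h5]; exact k.2
        rw [map_smul, smul_eq_mul] at h7
        exact (mul_eq_zero.1 h7).resolve_left hx.ne_zero
      rw [Submodule.Quotient.mk_eq_zero, Submodule.mem_smul_pointwise_iff_exists]
      exact ⟨⟨f, h6⟩, trivial, Subtype.ext h5.symm⟩
    exact Module.free_of_finite_type_torsion_free'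

/-- Ranks: the kernel of a nonzero form on `R^n` has rank `n - 1`. -/
theorem finrank_ker (n : ℕ) (π : (Fin n → R) →ₗ[R] R) (hπ : π ≠ 0) :
    Module.finrank R (LinearMap.ker π) + 1 = n := by
  have := CalgA.RegBasic.isDomain R
  have h1 := Submodule.finrank_quotient_add_finrank (LinearMap.ker π)
  rw [Module.finrank_fin_fun, π.quotKerEquivRange.finrank_eq] at h1
  have h2 : Module.finrank R (LinearMap.range π) = 1 := by
    have h3 := Submodule.finrank_quotient_add_finrank (LinearMap.range π)
    have h4 : Module.finrank R (R ⧸ LinearMap.range π) = 0 := by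
      rw [Module.finrank_eq_zero_iff_isTorsion]
      obtain ⟨v, hv⟩ : ∃ v, π v ≠ 0 := by
        by_contra hcon
        push Not at hcon
        exact hπ (LinearMap.ext hcon)
      intro z
      obtain ⟨z, rfl⟩ := Submodule.Quotient.mk_surjective _ z
      refine ⟨⟨π v, mem_nonZeroDivisors_of_ne_zero hv⟩, ?_⟩
      change π v • (Submodule.Quotient.mk z : R ⧸ LinearMap.range π) = 0
      rw [← Submodule.Quotient.mk_smul, Submodule.Quotient.mk_eq_zero]
      exact ⟨z • v, by rw [LinearMap.map_smul, smul_eq_mul, smul_eq_mul, mul_comm]⟩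
    rw [h4, Module.finrank_self] at h3
    omega
  omega

/-- Divisibility for coprime primes. -/
theorem pow_dvd_of_dvd_mul {x y : R} (hx : Prime x) (hxy : ¬ x ∣ y) (a b : ℕ) {t : R} (h : x ^ a ∣ y ^ b * t) :
    x ^ a ∣ t := by
  have := CalgA.RegBasic.isDomain R
  refine hx.pow_dvd_of_dvd_mul_left a ?_ h
  exact fun h' => hxy (hx.dvd_of_dvd_pow h')

theorem socle {x y : R} (hx : Prime x) (hy : Prime y) (hxy : ¬ x ∣ y) (hyx : ¬ y ∣ x) (N : ℕ) (t : R)
    (hxt : x * t ∈ Ideal.span {x ^ (N + 1), y ^ (N + 1)}) (hyt : y * t ∈ Ideal.span {x ^ (N + 1), y ^ (N + 1)}) :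
    ∃ c, t - c * (x ^ N * y ^ N) ∈ Ideal.span {x ^ (N + 1), y ^ (N + 1)} := by
  have := CalgA.RegBasic.isDomain R
  rw [Ideal.mem_span_pair] at hxt hyt
  obtain ⟨u, v, h1⟩ := hxt
  obtain ⟨s, w, h2⟩ := hyt
  -- `x ∣ v`
  have h3 : x ^ 1 ∣ y ^ (N + 1) * v := ⟨t - u * x ^ N, by linear_combination h1⟩
  obtain ⟨v', rfl⟩ := pow_dvd_of_dvd_mul hx hxy 1 (N + 1) h3
  have h4 : t = u * x ^ N + v' * y ^ (N + 1) := by
    apply mul_left_cancel₀ hx.ne_zero
    linear_combination -h1
  subst h4
  -- `x ^ N ∣ w - v'y`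
  have h5 : x ^ N ∣ y ^ (N + 1) * (w - y * v') := ⟨y * u - s * x, by linear_combination h2⟩
  obtain ⟨w', hw⟩ := pow_dvd_of_dvd_mul hx hxy N (N + 1) h5
  have h6 : y * u = x * s + y ^ (N + 1) * w' := by
    apply mul_left_cancel₀ (pow_ne_zero N hx.ne_zero)
    linear_combination -h2 + y ^ (N + 1) * hw
  have h7 : y ^ 1 ∣ x ^ 1 * s := ⟨u - y ^ N * w', by linear_combination -h6⟩
  obtain ⟨s', hs'⟩ := pow_dvd_of_dvd_mul hy hyx 1 1 h7
  have h8 : u = x * s' + y ^ N * w' := by
    apply mul_left_cancel₀ hy.ne_zero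
    rw [hs'] at h6
    linear_combination h6
  refine ⟨w', ?_⟩
  rw [Ideal.mem_span_pair]
  refine ⟨s', v', ?_⟩
  rw [h8]
  ring

end K871.Reg2
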