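import Mathlib.RingTheory.Length
import Mathlib.LinearAlgebra.FreeModule.Basic
import Mathlib.Algebra.Module.Torsion.Basic
import Mathlib.Tactic

set_option autoImplicit false
universe u v

/-!
The second Tor module of `R/I` and `R/(a,b)` for a regular sequence `a, b` in `I`, in coordinates.
-/

namespace K871.TorDual

variable {R : Type u} [CommRing R]

section coords

variable {n m : ℕ} (π : (Fin n → R) →ₗ[R] R) (e : Module.Basis (Fin m) R (LinearMap.ker π))

/-- The matrix of `ker π → R^n` with entries in a module `A`. -/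
noncomputable def Psi (A : Type v) [AddCommGroup A] [Module R A] : (Fin m → A) →ₗ[R] (Fin n → A) :=
  LinearMap.pi fun i => ∑ j, ((e j : Fin n → R) i) • LinearMap.proj j

theorem Psi_apply (A : Type v) [AddCommGroup A] [Module R A] (t : Fin m → A) (i : Fin n) :
    Psi π e A t i = ∑ j, ((e j : Fin n → R) i) • t j := by
  simp [Psi]

/-- The transposed matrix. -/
noncomputable def Phi (A : Type v) [AddCommGroup A] [Module R A] : (Fin n → A) →ₗ[R] (Fin m → A) :=
  LinearMap.pi fun j => ∑ i, ((e j : Fin n → R) i) • LinearMap.proj i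

theorem Phi_apply (A : Type v) [AddCommGroup A] [Module R A] (t : Fin n → A) (j : Fin m) :
    Phi π e A t j = ∑ i, ((e j : Fin n → R) i) • t i := by
  simp [Phi]

/-- The coordinates of an element of `ker π`, modulo an ideal. -/
noncomputable def kap (Q : Ideal R) : LinearMap.ker π →ₗ[R] (Fin m → R ⧸ Q) :=
  LinearMap.pi fun j => Q.mkQ.comp (e.coord j)

theorem kap_apply (Q : Ideal R) (k : LinearMap.ker π) (j : Fin m) :
    kap π e Q k j = Submodule.Quotient.mk (e.repr k j) := rfl

theorem kap_surjective (Q : Ideal R) : Function.Surjective (kap π e Q) := by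
  intro t
  choose s hs using fun j => Submodule.Quotient.mk_surjective _ (t j)
  refine ⟨e.equivFun.symm s, ?_⟩
  ext j
  rw [kap_apply, ← hs j]
  congr 1
  exact congrFun (e.equivFun.apply_symm_apply s) j

theorem Psi_kap (Q : Ideal R) (k : LinearMap.ker π) (i : Fin n) :
    Psi π e (R ⧸ Q) (kap π e Q k) i = Submodule.Quotient.mk ((k : Fin n → R) i) := by
  rw [Psi_apply]
  have h1 : (k : Fin n → R) i = ∑ j, (e.repr k j) * ((e j : Fin n → R) i) := by
    conv_lhs => rw [← e.sum_repr k]
    rw [Submodule.coe_sum, Finset.sum_apply]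
    rfl
  rw [h1, ← Submodule.mkQ_apply, map_sum]
  refine Finset.sum_congr rfl fun j _ => ?_
  rw [kap_apply, ← Submodule.Quotient.mk_smul, Submodule.mkQ_apply, smul_eq_mul, mul_comm]

theorem kap_eq_zero (a b : R) (k : LinearMap.ker π) :
    kap π e (Ideal.span {a, b}) k = 0 ↔ ∃ k₁ k₂ : LinearMap.ker π, k = a • k₁ + b • k₂ := by
  constructor
  · intro h
    have h1 : ∀ j, ∃ u v, u * a + v * b = e.repr k j := by
      intro j
      have := congrFun h j
      rw [kap_apply, Pi.zero_apply, Submodule.Quotient.mk_eq_zero, Ideal.mem_span_pair] at this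
      exact this
    choose u v huv using h1
    refine ⟨e.equivFun.symm u, e.equivFun.symm v, ?_⟩
    apply e.equivFun.injective
    ext j
    rw [map_add, map_smul, map_smul, LinearEquiv.apply_symm_apply, LinearEquiv.apply_symm_apply]
    simp only [Module.Basis.equivFun_apply, Pi.add_apply, Pi.smul_apply, smul_eq_mul]
    rw [← huv j]
    ring
  · rintro ⟨k₁, k₂, rfl⟩
    ext j
    rw [kap_apply, Pi.zero_apply, Submodule.Quotient.mk_eq_zero, Ideal.mem_span_pair]
    exact ⟨e.repr k₁ j, e.repr k₂ j, by simp; ring⟩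

/-- `Tor₂ (R/I, R/(a,b)) = R/I` for `I = range π ∋ a, b`, in coordinates. -/
theorem exists_tor [IsDomain R] (a b : R) (ha : a ≠ 0) (hab : ∀ t, a ∣ b * t → a ∣ t)
    (haI : a ∈ LinearMap.range π) (hbI : b ∈ LinearMap.range π) :
    ∃ E : (R ⧸ LinearMap.range π) →ₗ[R] (Fin m → R ⧸ Ideal.span {a, b}), Function.Injective E ∧
      LinearMap.range E = LinearMap.ker (Psi π e (R ⧸ Ideal.span {a, b})) := by
  let W : Submodule R ((Fin n → R) × (Fin n → R) × R) :=
    LinearMap.ker (π.comp (LinearMap.fst R _ _) + b • (LinearMap.snd R _ _).comp (LinearMap.snd R _ _)) ⊓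
      LinearMap.ker (π.comp ((LinearMap.fst R _ _).comp (LinearMap.snd R _ _)) -
        a • (LinearMap.snd R _ _).comp (LinearMap.snd R _ _))
  have hW : ∀ f₁ f₂ c, (f₁, f₂, c) ∈ W ↔ π f₁ = - (b * c) ∧ π f₂ = a * c := by
    intro f₁ f₂ c
    simp only [W, Submodule.mem_inf, LinearMap.mem_ker, LinearMap.add_apply, LinearMap.comp_apply,
      LinearMap.fst_apply, LinearMap.snd_apply, LinearMap.smul_apply, LinearMap.sub_apply, smul_eq_mul]
    rw [add_eq_zero_iff_eq_neg, sub_eq_zero]
  let α : W →ₗ[R] (R ⧸ LinearMap.range π) :=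
    ((LinearMap.range π).mkQ.comp ((LinearMap.snd R _ _).comp (LinearMap.snd R _ _))).comp W.subtype
  have hαap : ∀ w : W, α w = Submodule.Quotient.mk w.1.2.2 := fun w => rfl
  have hα : Function.Surjective α := by
    intro z
    obtain ⟨c, rfl⟩ := Submodule.Quotient.mk_surjective _ z
    obtain ⟨p, hp⟩ := haI
    obtain ⟨q, hq⟩ := hbI
    refine ⟨⟨((-c) • q, c • p, c), ?_⟩, rfl⟩
    rw [hW]
    rw [map_smul, map_smul, hp, hq, smul_eq_mul, smul_eq_mul]
    constructor <;> ring
  let γ : W →ₗ[R] LinearMap.ker π :=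
    LinearMap.codRestrict (LinearMap.ker π)
      ((a • (LinearMap.fst R (Fin n → R) ((Fin n → R) × R)) +
        b • (LinearMap.fst R (Fin n → R) R).comp (LinearMap.snd R (Fin n → R) ((Fin n → R) × R))).comp W.subtype) (by
        rintro ⟨⟨f₁, f₂, c⟩, hw⟩
        rw [hW] at hw
        simp only [LinearMap.mem_ker, LinearMap.comp_apply, LinearMap.add_apply, LinearMap.smul_apply,
          LinearMap.fst_apply, LinearMap.snd_apply, Submodule.subtype_apply, map_add, map_smul, hw.1, hw.2,
          smul_eq_mul]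
        ring)
  have hγ : ∀ w : W, (γ w : Fin n → R) = a • w.1.1 + b • w.1.2.1 := fun w => rfl
  let β : W →ₗ[R] (Fin m → R ⧸ Ideal.span {a, b}) := (kap π e _).comp γ
  have hker : LinearMap.ker α = LinearMap.ker β := by
    ext ⟨⟨f₁, f₂, c⟩, hw⟩
    have hw' := hw
    rw [hW] at hw'
    obtain ⟨hw1, hw2⟩ := hw'
    rw [LinearMap.mem_ker, LinearMap.mem_ker, hαap, Submodule.Quotient.mk_eq_zero]
    change c ∈ LinearMap.range π ↔ kap π e _ (γ _) = 0
    rw [kap_eq_zero]
    constructor
    · rintro ⟨w, rfl⟩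
      refine ⟨⟨f₁ + b • w, ?_⟩, ⟨f₂ - a • w, ?_⟩, ?_⟩
      · rw [LinearMap.mem_ker, map_add, hw1, map_smul, smul_eq_mul]; ring
      · rw [LinearMap.mem_ker, map_sub, hw2, map_smul, smul_eq_mul]; ring
      · apply Subtype.ext
        rw [hγ]
        ext i
        simp only [Pi.add_apply, Pi.smul_apply, smul_eq_mul, Submodule.coe_add, Submodule.coe_smul, Pi.sub_apply]
        ring
    · rintro ⟨k₁, k₂, hk⟩
      have h1 := congrArg Subtype.val hk
      rw [hγ] at h1
      have h2 : ∀ i, a * (f₁ i - (k₁ : Fin n → R) i) = - (b * (f₂ i - (k₂ : Fin n → R) i)) := by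
        intro i
        have := congrFun h1 i
        simp only [Pi.add_apply, Pi.smul_apply, smul_eq_mul, Submodule.coe_add, Submodule.coe_smul] at this
        linear_combination this
      have h3 : ∀ i, ∃ w, f₂ i - (k₂ : Fin n → R) i = a * w := by
        intro i
        exact hab _ ⟨- (f₁ i - (k₁ : Fin n → R) i), by linear_combination h2 i⟩
      choose w hw using h3
      refine ⟨w, ?_⟩
      apply mul_left_cancel₀ ha
      rw [← hw2, ← smul_eq_mul, ← map_smul]
      have h4 : a • w = f₂ - (k₂ : Fin n → R) := by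
        ext i
        simp [← hw i]
      rw [h4, map_sub]
      have : π (k₂ : Fin n → R) = 0 := k₂.2
      rw [this, sub_zero]
  refine ⟨((LinearMap.ker α).liftQ β hker.le).comp (α.quotKerEquivOfSurjective hα).symm.toLinearMap, ?_, ?_⟩
  · have h1 : Function.Injective ((LinearMap.ker α).liftQ β hker.le) := by
      rw [← LinearMap.ker_eq_bot, Submodule.ker_liftQ_eq_bot _ _ _ hker.ge]
    exact h1.comp (α.quotKerEquivOfSurjective hα).symm.injective
  · rw [LinearMap.range_comp, LinearEquiv.range, Submodule.map_top, Submodule.range_liftQ]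
    apply le_antisymm
    · rintro _ ⟨w, rfl⟩
      rw [LinearMap.mem_ker]
      ext i
      change Psi π e _ (kap π e _ (γ w)) i = 0
      rw [Psi_kap, hγ, Submodule.Quotient.mk_eq_zero, Ideal.mem_span_pair]
      exact ⟨w.1.1 i, w.1.2.1 i, by simp; ring⟩
    · intro t ht
      rw [LinearMap.mem_ker] at ht
      obtain ⟨k, rfl⟩ := kap_surjective π e _ t
      have h1 : ∀ i, ∃ u v, u * a + v * b = (k : Fin n → R) i := by
        intro i
        have := congrFun ht i
        rw [Psi_kap, Pi.zero_apply, Submodule.Quotient.mk_eq_zero, Ideal.mem_span_pair] at this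
        exact this
      choose f₁ f₂ hf using h1
      have h2 : (k : Fin n → R) = a • f₁ + b • f₂ := by
        ext i
        simp [← hf i]
        ring
      have h3 : a * π f₁ + b * π f₂ = 0 := by
        have : π (k : Fin n → R) = 0 := k.2
        rw [h2, map_add, map_smul, map_smul] at this
        exact this
      obtain ⟨c, hc⟩ := hab (π f₂) ⟨-π f₁, by linear_combination h3⟩
      have h4 : π f₁ = -(b * c) := by
        apply mul_left_cancel₀ ha
        rw [hc] at h3
        linear_combination h3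
      refine ⟨⟨(f₁, f₂, c), (hW _ _ _).2 ⟨h4, hc⟩⟩, ?_⟩
      change kap π e _ (γ _) = _
      congr 1
      apply Subtype.ext
      rw [hγ, h2]

end coords

end K871.TorDual
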