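import Groth.Agent.W4c1hilbpn.K871.SocDual
import Groth.Agent.W4c1hilbpn.K871.Reg2
import Groth.Agent.W4c1hilbpn.K871.TorDual
import Mathlib.RingTheory.Ideal.Colon
import Mathlib.RingTheory.HopkinsLevitzki
import Mathlib.RingTheory.Ideal.KrullsHeightTheorem
import Mathlib.RingTheory.LocalRing.Quotient
import Mathlib.Tactic

set_option autoImplicit false
universe u

/-!
The length of `Hom (I, R/J)` over a regular local ring of dimension two.
-/

namespace K871.HomLen

open IsLocalRing K871.TorDual

section len

variable {R : Type u} [CommRing R] [IsLocalRing R] [IsNoetherianRing R]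

theorem exists_pow_le (I : Ideal R) (h : Module.length R (R ⧸ I) < ⊤) : ∃ N, maximalIdeal R ^ N ≤ I := by
  have h1 := Module.length_ne_top_iff.1 h.ne
  rw [isFiniteLength_iff_isNoetherian_isArtinian] at h1
  have h2 := h1.2
  have : IsArtinianRing (R ⧸ I) := isArtinian_of_tower R h2
  exact exists_maximalIdeal_pow_le_of_isArtinianRing_quotient I

theorem length_quotient_ne_top (Q : Ideal R) (n : ℕ) (h : maximalIdeal R ^ n ≤ Q) :
    Module.length R (R ⧸ Q) ≠ ⊤ := by
  have h0 : Module.length R (R ⧸ maximalIdeal R ^ n) ≠ ⊤ := by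
    have : IsArtinianRing (R ⧸ (maximalIdeal R) ^ n) := by
      rcases Nat.eq_zero_or_pos n with rfl | hn
      · rw [pow_zero, Ideal.one_eq_top]
        have : Subsingleton (R ⧸ (⊤ : Ideal R)) := Ideal.Quotient.subsingleton_iff.mpr rfl
        infer_instance
      · apply IsLocalRing.quotient_artinian_of_mem_minimalPrimes_of_isLocalRing
        rw [Ideal.minimalPrimes, Set.mem_ofPred]
        refine ⟨⟨inferInstance, Ideal.pow_le_self hn.ne'⟩, ?_⟩
        rintro J ⟨hJ, hJ'⟩ -
        exact (hJ.pow_le_iff hn.ne').mp hJ'
    rw [Module.length_eq_of_surjective (R := R ⧸ maximalIdeal R ^ n) (S := R) Ideal.Quotient.mk_surjective]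
    exact Module.length_ne_top
  intro h'
  have := Module.length_le_of_surjective (R := R) (Submodule.factor h) (Submodule.factor_surjective h)
  rw [h', top_le_iff] at this
  exact h0 this

end len

section coker

variable {R : Type u} [CommRing R] {n m : ℕ} (π : (Fin n → R) →ₗ[R] R)
  (e : Module.Basis (Fin m) R (LinearMap.ker π))

/-- The kernel of the transposed matrix is `Hom (I, M)`. -/
theorem length_ker_Phi (M : Type u) [AddCommGroup M] [Module R M] :
    Module.length R (LinearMap.range π →ₗ[R] M) = Module.length R (LinearMap.ker (Phi π e M)) := by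
  let ι : (LinearMap.range π →ₗ[R] M) →ₗ[R] (Fin n → M) :=
    LinearMap.pi fun i => LinearMap.applyₗ (π.rangeRestrict (Pi.single i 1))
  have hι : ∀ h i, ι h i = h (π.rangeRestrict (Pi.single i 1)) := fun h i => rfl
  have hsum : ∀ (h : LinearMap.range π →ₗ[R] M) (v : Fin n → R), h (π.rangeRestrict v) = ∑ i, v i • ι h i := by
    intro h v
    conv_lhs => rw [← Finset.univ_sum_single v]
    rw [map_sum, map_sum]
    refine Finset.sum_congr rfl fun i _ => ?_
    rw [hι, ← map_smul, ← map_smul, ← Pi.single_smul]
    simp
  have hinj : Function.Injective ι := by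
    intro h h' hh
    apply LinearMap.ext
    intro z
    obtain ⟨v, rfl⟩ := π.surjective_rangeRestrict z
    rw [hsum, hsum, hh]
  have hrange : LinearMap.range ι = LinearMap.ker (Phi π e M) := by
    apply le_antisymm
    · rintro _ ⟨h, rfl⟩
      rw [LinearMap.mem_ker]
      ext j
      rw [Phi_apply, ← hsum, Pi.zero_apply]
      have : π.rangeRestrict (e j : Fin n → R) = 0 := Subtype.ext (e j).2
      rw [this, map_zero]
    · intro t ht
      rw [LinearMap.mem_ker] at ht
      -- the map `R^n → M` defined by `t` kills the kernel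
      let g : (Fin n → R) →ₗ[R] M := ∑ i, (LinearMap.proj i : (Fin n → R) →ₗ[R] R).smulRight (t i)
      have hg : ∀ v, g v = ∑ i, v i • t i := by
        intro v
        simp [g]
      have hle : LinearMap.ker π ≤ LinearMap.ker g := by
        intro k hk
        have h1 : (⟨k, hk⟩ : LinearMap.ker π) = ∑ j, e.repr ⟨k, hk⟩ j • e j := (e.sum_repr _).symm
        have h2 : k = ∑ j, e.repr ⟨k, hk⟩ j • (e j : Fin n → R) := by
          have := congrArg Subtype.val h1
          rw [Submodule.coe_sum] at this
          exact this
        rw [LinearMap.mem_ker, h2, map_sum]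
        refine Finset.sum_eq_zero fun j _ => ?_
        rw [map_smul, hg]
        have := congrFun ht j
        rw [Phi_apply] at this
        rw [this]
        simp
      refine ⟨((LinearMap.ker π).liftQ g hle).comp π.quotKerEquivRange.symm.toLinearMap, ?_⟩
      ext i
      rw [hι]
      have h1 : π.quotKerEquivRange.symm (π.rangeRestrict (Pi.single i 1)) = Submodule.Quotient.mk (Pi.single i 1) := by
        rw [LinearEquiv.symm_apply_eq]
        rfl
      rw [LinearMap.comp_apply]
      change ((LinearMap.ker π).liftQ g hle) (π.quotKerEquivRange.symm (π.rangeRestrict (Pi.single i 1))) = _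
      rw [h1, Submodule.liftQ_apply, hg]
      simp [Pi.single_apply]
  rw [← hrange]
  exact (LinearEquiv.ofInjective ι hinj).length_eq

/-- `Hom (coker Phi, A)` in coordinates. -/
theorem length_hom_coker [IsDomain R] (J : Ideal R) (a b : R) (ha : a ≠ 0) (hab : ∀ t, a ∣ b * t → a ∣ t)
    (haI : a ∈ LinearMap.range π) (hbI : b ∈ LinearMap.range π) :
    Module.length R (((Fin m → R ⧸ J) ⧸ LinearMap.range (Phi π e (R ⧸ J))) →ₗ[R] (R ⧸ Ideal.span {a, b})) =
      Module.length R (Submodule.torsionBySet R (R ⧸ LinearMap.range π) J) := by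
  obtain ⟨E, hE, hEr⟩ := exists_tor π e a b ha hab haI hbI
  set A := R ⧸ Ideal.span {a, b} with hA
  let C := (Fin m → R ⧸ J) ⧸ LinearMap.range (Phi π e (R ⧸ J))
  let one : R ⧸ J := Submodule.Quotient.mk 1
  have hone : ∀ r : R, (Submodule.Quotient.mk r : R ⧸ J) = r • one := by
    intro r
    rw [← Submodule.Quotient.mk_smul, smul_eq_mul, mul_one]
  let ε : (C →ₗ[R] A) →ₗ[R] (Fin m → A) :=
    LinearMap.pi fun j => LinearMap.applyₗ (Submodule.Quotient.mk (Pi.single j one))
  have hε : ∀ θ j, ε θ j = θ (Submodule.Quotient.mk (Pi.single j one)) := fun θ j => rfl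
  have hsum : ∀ (θ : C →ₗ[R] A) (v : Fin m → R),
      θ (Submodule.Quotient.mk fun j => Submodule.Quotient.mk (v j)) = ∑ j, v j • ε θ j := by
    intro θ v
    have h1 : (fun j => (Submodule.Quotient.mk (v j) : R ⧸ J)) = ∑ j, v j • Pi.single j one := by
      rw [← Finset.univ_sum_single (fun j => (Submodule.Quotient.mk (v j) : R ⧸ J))]
      refine Finset.sum_congr rfl fun j _ => ?_
      rw [hone, Pi.single_smul]
    rw [h1, ← Submodule.mkQ_apply, map_sum, map_sum]
    refine Finset.sum_congr rfl fun j _ => ?_
    rw [map_smul, map_smul, hε, Submodule.mkQ_apply]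
  have hinj : Function.Injective ε := by
    intro θ θ' hh
    apply LinearMap.ext
    intro z
    obtain ⟨w, rfl⟩ := Submodule.Quotient.mk_surjective _ z
    choose v hv using fun j => Submodule.Quotient.mk_surjective _ (w j)
    have : w = fun j => (Submodule.Quotient.mk (v j) : R ⧸ J) := by
      ext j; exact (hv j).symm
    rw [this, hsum, hsum, hh]
  have hrange : LinearMap.range ε = (Submodule.torsionBySet R (R ⧸ LinearMap.range π) J).map E := by
    ext t
    rw [Submodule.mem_map]
    constructor
    · rintro ⟨θ, rfl⟩
      have h1 : ε θ ∈ LinearMap.range E := by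
        rw [hEr, LinearMap.mem_ker]
        ext i
        rw [Psi_apply, Pi.zero_apply, ← hsum]
        have h2 : (Submodule.Quotient.mk (fun j => Submodule.Quotient.mk ((e j : Fin n → R) i)) : C) = 0 := by
          rw [Submodule.Quotient.mk_eq_zero]
          refine ⟨Pi.single i one, ?_⟩
          ext j
          rw [Phi_apply, Finset.sum_eq_single i, Pi.single_eq_same, ← hone]
          · intro i' _ hi'
            rw [Pi.single_eq_of_ne hi', smul_zero]
          · simp
        rw [h2, map_zero]
      obtain ⟨z, hz⟩ := h1
      refine ⟨z, ?_, hz⟩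
      rw [Submodule.mem_torsionBySet_iff]
      rintro ⟨j, hj⟩
      apply hE
      rw [map_smul, map_zero, hz]
      ext i
      change j • ε θ i = 0
      rw [hε, ← map_smul, ← Submodule.Quotient.mk_smul, ← Pi.single_smul]
      have : j • one = 0 := by
        rw [← hone, Submodule.Quotient.mk_eq_zero]
        exact hj
      rw [this]
      simp
    · rintro ⟨z, hz, rfl⟩
      rw [Submodule.mem_torsionBySet_iff] at hz
      have hJ : ∀ j ∈ J, ∀ i, j • E z i = 0 := by
        intro j hj i
        have := congrFun (congrArg E (hz ⟨j, hj⟩)) i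
        rw [map_smul, map_zero] at this
        exact this
      have hk : Psi π e A (E z) = 0 := by
        rw [← LinearMap.mem_ker, ← hEr]
        exact ⟨z, rfl⟩
      let g : (Fin m → R ⧸ J) →ₗ[R] A := ∑ j, (J.liftQ (LinearMap.toSpanSingleton R A (E z j)) (by
        intro r hr
        rw [LinearMap.mem_ker, LinearMap.toSpanSingleton_apply]
        exact hJ r hr j)).comp (LinearMap.proj j)
      have hg : ∀ v : Fin m → R, g (fun j => Submodule.Quotient.mk (v j)) = ∑ j, v j • E z j := by
        intro v
        simp only [g, LinearMap.sum_apply, LinearMap.comp_apply, LinearMap.proj_apply]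
        refine Finset.sum_congr rfl fun j _ => ?_
        rw [Submodule.liftQ_apply, LinearMap.toSpanSingleton_apply]
      have hle : LinearMap.range (Phi π e (R ⧸ J)) ≤ LinearMap.ker g := by
        rintro _ ⟨w, rfl⟩
        rw [LinearMap.mem_ker]
        choose v hv using fun j => Submodule.Quotient.mk_surjective _ (w j)
        have h1 : Phi π e (R ⧸ J) w = fun j => Submodule.Quotient.mk (∑ i, (e j : Fin n → R) i * v i) := by
          ext j
          rw [Phi_apply, ← Submodule.mkQ_apply, map_sum]
          refine Finset.sum_congr rfl fun i _ => ?_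
          rw [Submodule.mkQ_apply, ← smul_eq_mul, Submodule.Quotient.mk_smul, hv]
        rw [h1, hg]
        have h2 : ∑ j, (∑ i, (e j : Fin n → R) i * v i) • E z j = ∑ i, v i • Psi π e A (E z) i := by
          simp_rw [Psi_apply, Finset.sum_smul, Finset.smul_sum]
          rw [Finset.sum_comm]
          refine Finset.sum_congr rfl fun i _ => Finset.sum_congr rfl fun j _ => ?_
          rw [smul_smul, mul_comm]
        rw [h2, hk]
        simp
      refine ⟨(LinearMap.range (Phi π e (R ⧸ J))).liftQ g hle, ?_⟩
      ext i
      rw [hε, Submodule.liftQ_apply]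
      have h1 : (Pi.single i one : Fin m → R ⧸ J) = fun j => Submodule.Quotient.mk ((Pi.single i 1 : Fin m → R) j) := by
        ext j
        by_cases hj : j = i
        · subst hj
          rw [Pi.single_eq_same, Pi.single_eq_same]
        · rw [Pi.single_eq_of_ne hj, Pi.single_eq_of_ne hj]
          rfl
      rw [h1, hg, Finset.sum_eq_single i]
      · rw [Pi.single_eq_same, one_smul]
      · intro j _ hj
        rw [Pi.single_eq_of_ne hj, zero_smul]
      · simp
  have h1 := (LinearEquiv.ofInjective ε hinj).length_eq
  rw [h1, hrange]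
  exact ((Submodule.equivMapOfInjective E hE _).length_eq).symm

end coker

/-- Colon ideals and torsion. -/
theorem length_torsion {R : Type u} [CommRing R] (I J : Ideal R) :
    Module.length R (Submodule.torsionBySet R (R ⧸ I) J) + Module.length R (R ⧸ I.colon J) =
      Module.length R (R ⧸ I) := by
  have hle : I ≤ I.colon (J : Set R) := Ideal.le_colon
  refine (Module.length_eq_add_of_exact (Submodule.subtype _) (Submodule.factor hle)
    (Submodule.injective_subtype _) (Submodule.factor_surjective hle) ?_).symm
  intro z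
  obtain ⟨r, rfl⟩ := Submodule.Quotient.mk_surjective _ z
  simp only [Submodule.coe_subtype, Set.mem_range, Subtype.exists, exists_prop, exists_eq_right]
  rw [← Submodule.mkQ_apply, Submodule.factor_mk, Submodule.mkQ_apply, Submodule.Quotient.mk_eq_zero, Submodule.mem_torsionBySet_iff,
    Submodule.mem_colon]
  constructor
  · rintro h ⟨s, hs⟩
    change s • Submodule.Quotient.mk r = 0
    rw [← Submodule.Quotient.mk_smul, Submodule.Quotient.mk_eq_zero, smul_eq_mul, mul_comm]
    exact h s hs
  · intro h s hs
    have := h ⟨s, hs⟩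
    change s • Submodule.Quotient.mk r = 0 at this
    rw [← Submodule.Quotient.mk_smul, Submodule.Quotient.mk_eq_zero, smul_eq_mul, mul_comm] at this
    exact this

theorem main (R : Type u) [CommRing R]
    [IsRegularLocalRing R] (hdim : ringKrullDim R = 2) (I J : Ideal R)
    (hI : Module.length R (R ⧸ I) < ⊤) (hJ : Module.length R (R ⧸ J) < ⊤) :
    Module.length R (↥I →ₗ[R] (R ⧸ J)) + Module.length R (R ⧸ I.colon J) =
      Module.length R (R ⧸ J) + Module.length R (R ⧸ I) := by
  have hdom := Groth.Agent.CalgA.RegBasic.isDomain R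
  obtain ⟨x, y, hxy⟩ := Reg2.exists_params hdim
  obtain ⟨hx, hxy', -⟩ := Reg2.param_left hdim hxy
  obtain ⟨hy, hyx', -⟩ := Reg2.param_left hdim (by rw [Set.pair_comm]; exact hxy : Ideal.span {y, x} = maximalIdeal R)
  have hxm : x ∈ maximalIdeal R := by rw [← hxy]; exact Ideal.subset_span (by simp)
  have hym : y ∈ maximalIdeal R := by rw [← hxy]; exact Ideal.subset_span (by simp)
  obtain ⟨N₁, hN₁⟩ := exists_pow_le I hI
  obtain ⟨N₂, hN₂⟩ := exists_pow_le J hJ
  set N := N₁ + N₂ with hN
  have haI : ∀ z ∈ maximalIdeal R, z ^ (N + 1) ∈ I := fun z hz =>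
    hN₁ (Ideal.pow_le_pow_right (by omega) (Ideal.pow_mem_pow hz (N + 1)))
  have haJ : ∀ z ∈ maximalIdeal R, z ^ (N + 1) ∈ J := fun z hz =>
    hN₂ (Ideal.pow_le_pow_right (by omega) (Ideal.pow_mem_pow hz (N + 1)))
  set a := x ^ (N + 1) with ha
  set b := y ^ (N + 1) with hb
  set Q := Ideal.span {a, b} with hQ
  -- the presentation
  obtain ⟨n, π₀, hπ₀⟩ := Module.Finite.exists_fin' R I
  let π : (Fin n → R) →ₗ[R] R := I.subtype.comp π₀
  have hrange : LinearMap.range π = I := by
    rw [LinearMap.range_comp, LinearMap.range_eq_top.2 hπ₀, Submodule.map_top, Submodule.range_subtype]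
  have hπ0 : π ≠ 0 := by
    intro h
    have h1 : a ∈ LinearMap.range π := by rw [hrange]; exact haI x hxm
    rw [h, LinearMap.range_zero, Submodule.mem_bot] at h1
    exact pow_ne_zero _ hx.ne_zero h1
  have hfree := Reg2.free_ker hdim n π
  have hrank := Reg2.finrank_ker n π hπ0
  let e := Module.finBasis R (LinearMap.ker π)
  set m := Module.finrank R (LinearMap.ker π) with hm
  let M := R ⧸ J
  -- first count
  have h1 := length_ker_Phi π e M
  have h2 := Module.length_eq_add_of_exact (R := R) (LinearMap.ker (Phi π e M)).subtype (Phi π e M).rangeRestrict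
    (Submodule.injective_subtype _) (LinearMap.surjective_rangeRestrict _) (by
      intro z
      simp only [Submodule.coe_subtype, Set.mem_range, Subtype.exists, exists_prop, exists_eq_right,
        LinearMap.mem_ker, Subtype.ext_iff]
      exact Iff.rfl)
  have h3 := Module.length_eq_add_of_exact (R := R) (LinearMap.range (Phi π e M)).subtype
    (LinearMap.range (Phi π e M)).mkQ
    (Submodule.injective_subtype _) (Submodule.mkQ_surjective _) (by
      intro z
      simp)
  have hpi : ∀ r : ℕ, Module.length R (Fin r → M) = r * Module.length R M := by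
    intro r
    rw [Module.length_pi]
    simp
  rw [hpi] at h2 h3
  -- second count
  have hs := Reg2.socle hx hy hxy' hyx' N
  have hdual := SocDual.length_hom_eq (Q := Q) (x ^ N * y ^ N) (by
      intro t ht
      exact hs t (ht x hxm) (ht y hym)) (by
      intro r hr
      rw [← hxy, Ideal.mem_span_pair] at hr
      obtain ⟨u, v, rfl⟩ := hr
      rw [hQ, Ideal.mem_span_pair]
      exact ⟨u * y ^ N, v * x ^ N, by rw [ha, hb]; ring⟩) (by
      refine length_quotient_ne_top Q (2 * (N + 1)) ?_
      rw [← hxy, hQ, two_mul]
      have := Ideal.sup_pow_add_le_pow_sup_pow (I := Ideal.span {x}) (J := Ideal.span {y}) (n := N + 1) (m := N + 1)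
      rwa [Ideal.span_singleton_pow, Ideal.span_singleton_pow, ← Ideal.span_union, ← Ideal.span_union] at this)
    ((Fin m → M) ⧸ LinearMap.range (Phi π e M)) (by
      intro q hq z
      obtain ⟨w, rfl⟩ := Submodule.Quotient.mk_surjective _ z
      rw [← Submodule.Quotient.mk_smul]
      have : q • w = 0 := by
        ext j
        obtain ⟨s, hs⟩ := Submodule.Quotient.mk_surjective _ (w j)
        rw [Pi.smul_apply, ← hs, ← Submodule.Quotient.mk_smul, Pi.zero_apply, Submodule.Quotient.mk_eq_zero]
        have : q ∈ J := by
          have h : Q ≤ J := by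
            rw [hQ, Ideal.span_le]
            rintro z (rfl | rfl)
            · exact haJ x hxm
            · exact haJ y hym
          exact h hq
        exact Ideal.mul_mem_right _ _ this
      rw [this]
      simp)
  have h4 := length_hom_coker π e J a b (pow_ne_zero _ hx.ne_zero)
    (fun t ht => Reg2.pow_dvd_of_dvd_mul hx hxy' _ _ ht) (by rw [hrange]; exact haI x hxm)
    (by rw [hrange]; exact haI y hym)
  have h5 := length_torsion (LinearMap.range π) J
  rw [hrange] at h1 h4 h5
  rw [← h4, hdual.2] at h5
  rw [← h5]
  -- conclude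
  have hfin : Module.length R (LinearMap.range (Phi π e M)) ≠ ⊤ := by
    intro h
    rw [h, top_add] at h3
    exact WithTop.mul_ne_top (ENat.natCast_ne_top m) hJ.ne h3
  rw [← h1] at h2
  have h6 : Module.length R (I →ₗ[R] M) + Module.length R (LinearMap.range (Phi π e M)) =
      Module.length R M + Module.length R ((Fin m → M) ⧸ LinearMap.range (Phi π e M)) +
        Module.length R (LinearMap.range (Phi π e M)) := by
    have hn : (n : ℕ∞) = m + 1 := by exact_mod_cast hrank.symm
    rw [← h2, hn, add_mul, one_mul, h3]
    ring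
  have h7 : Module.length R (I →ₗ[R] M) =
      Module.length R M + Module.length R ((Fin m → M) ⧸ LinearMap.range (Phi π e M)) :=
    ENat.add_left_injective_of_ne_top hfin h6
  rw [h7, add_assoc]

end K871.HomLen
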