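import Mathlib.Tactic
import Mathlib.Algebra.BigOperators.Intervals

set_option autoImplicit false

/-!
Combinatorics of the slices of a strongly stable staircase in three variables.
-/

namespace K871.Tail

open Finset

variable {h : ℕ → ℕ → ℕ} {N : ℕ}

/-- number of boxes of a slice -/
def dd (h : ℕ → ℕ → ℕ) (N a : ℕ) : ℕ := ∑ b ∈ range N, h a b

theorem choose_two_succ (n : ℕ) : (n + 1).choose 2 = n.choose 2 + n := by
  rw [Nat.choose_succ_succ' n 1, Nat.choose_one_right]
  exact Nat.add_comm _ _

theorem choose_three_succ (n : ℕ) : (n + 1).choose 3 = n.choose 3 + n.choose 2 := by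
  rw [Nat.choose_succ_succ' n 2]
  exact Nat.add_comm _ _

theorem height_le (hyz : ∀ a b, 0 < h a (b + 1) → h a (b + 1) + 1 ≤ h a b) (a b : ℕ) (hb : 0 < h a b) :
    h a b + b ≤ h a 0 := by
  induction b with
  | zero => simp
  | succ b ih =>
    have h1 := hyz a b hb
    have h2 := ih (by omega)
    omega

theorem sum_sub (z M : ℕ) : ∑ b ∈ range M, (z - b) ≤ (z + 1).choose 2 := by
  induction z generalizing M with
  | zero => simp
  | succ z ih =>
    rcases M with _ | M
    · simp
    · rw [sum_range_succ', choose_two_succ (z + 1)]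
      have h' : ∑ b ∈ range M, (z + 1 - (b + 1)) = ∑ b ∈ range M, (z - b) :=
        sum_congr rfl fun b _ => by omega
      rw [h']
      have := ih M
      omega

theorem sum_sub_eq (z M : ℕ) (hzM : z ≤ M) : ∑ b ∈ range M, (z - b) = (z + 1).choose 2 := by
  induction z generalizing M with
  | zero => simp
  | succ z ih =>
    rcases M with _ | M
    · omega
    · rw [sum_range_succ', choose_two_succ (z + 1)]
      have h' : ∑ b ∈ range M, (z + 1 - (b + 1)) = ∑ b ∈ range M, (z - b) :=
        sum_congr rfl fun b _ => by omega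
      rw [h']
      have := ih M (by omega)
      omega

theorem le_sub (hyz : ∀ a b, 0 < h a (b + 1) → h a (b + 1) + 1 ≤ h a b) (a b : ℕ) :
    h a b ≤ h a 0 - b := by
  rcases Nat.eq_zero_or_pos (h a b) with h0 | h0
  · omega
  · have := height_le hyz a b h0
    omega

theorem dd_le (hyz : ∀ a b, 0 < h a (b + 1) → h a (b + 1) + 1 ≤ h a b) (a : ℕ) :
    dd h N a ≤ (h a 0 + 1).choose 2 :=
  le_trans (sum_le_sum fun b _ => le_sub hyz a b) (sum_sub (h a 0) N)

theorem dd_step (hN : ∀ a b, N ≤ b → h a b = 0)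
    (hxz : ∀ a b, 0 < h (a + 1) b → h (a + 1) b + 1 ≤ h a b) (hxy : ∀ a b, h (a + 1) b ≤ h a (b + 1))
    (a : ℕ) (hpos : 0 < h (a + 1) 0) :
    dd h N (a + 1) + h (a + 1) 0 + 1 ≤ dd h N a := by
  have h1 : dd h N a = ∑ b ∈ range (N + 1), h a b := by
    rw [sum_range_succ, hN a N le_rfl, add_zero, dd]
  rw [h1, sum_range_succ']
  have h2 : dd h N (a + 1) ≤ ∑ b ∈ range N, h a (b + 1) := sum_le_sum fun b _ => hxy a b
  have h3 := hxz a 0 hpos
  omega

theorem choose_two_mono {a b : ℕ} (hab : a ≤ b) : a.choose 2 ≤ b.choose 2 := Nat.choose_le_choose 2 hab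

theorem lt_of_choose_lt {a b : ℕ} (hab : a.choose 2 < b.choose 2) : a < b := by
  by_contra hcon
  exact absurd (choose_two_mono (not_lt.1 hcon)) (not_le.2 hab)

theorem le_of_choose_le {a b : ℕ} (hab : (a + 1).choose 2 ≤ (b + 1).choose 2) : a ≤ b := by
  by_contra hcon
  have h1 := choose_two_mono (show b + 1 + 1 ≤ a + 1 by omega)
  have h2 := choose_two_succ (b + 1)
  omega

/-- a slice bigger than the triangle forces all the previous ones to be bigger -/
theorem lt_dd (hyz : ∀ a b, 0 < h a (b + 1) → h a (b + 1) + 1 ≤ h a b) (hN : ∀ a b, N ≤ b → h a b = 0)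
    (hxz : ∀ a b, 0 < h (a + 1) b → h (a + 1) b + 1 ≤ h a b) (hxy : ∀ a b, h (a + 1) b ≤ h a (b + 1))
    (r j i : ℕ) (hir : j + i < r) (hlt : (r - (j + i) + 1).choose 2 < dd h N (j + i)) :
    (r - j + 1).choose 2 < dd h N j := by
  induction i with
  | zero => simpa using hlt
  | succ i ih =>
    apply ih (by omega)
    have h1 := dd_le (N := N) hyz (j + (i + 1))
    have h2 := lt_of_choose_lt (lt_of_lt_of_le hlt h1)
    have h3 := dd_step hN hxz hxy (j + i) (by
      change 0 < h (j + (i + 1)) 0
      omega)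
    have h4 : r - (j + i) + 1 = (r - (j + (i + 1)) + 1) + 1 := by omega
    rw [h4, choose_two_succ]
    have h5 : dd h N (j + i + 1) = dd h N (j + (i + 1)) := rfl
    have h6 : h (j + i + 1) 0 = h (j + (i + 1)) 0 := rfl
    omega

theorem sum_choose (r : ℕ) : ∑ i ∈ range r, (r - i + 1).choose 2 = (r + 2).choose 3 := by
  induction r with
  | zero => simp
  | succ r ih =>
    rw [sum_range_succ', choose_three_succ (r + 2)]
    have : ∀ i ∈ range r, (r + 1 - (i + 1) + 1).choose 2 = (r - i + 1).choose 2 := fun i _ => by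
      congr 1; omega
    rw [sum_congr rfl this, ih]
    rfl

/-- The inequalities between the tails. -/
theorem tail_le (hyz : ∀ a b, 0 < h a (b + 1) → h a (b + 1) + 1 ≤ h a b) (hN : ∀ a b, N ≤ b → h a b = 0)
    (hxz : ∀ a b, 0 < h (a + 1) b → h (a + 1) b + 1 ≤ h a b) (hxy : ∀ a b, h (a + 1) b ≤ h a (b + 1))
    (r : ℕ) (M : ℕ) (hM : r ≤ M) (htot : ∑ a ∈ range M, dd h N a ≤ (r + 2).choose 3) (j : ℕ) (hj : j ≤ r) :
    ∑ i ∈ Ico j r, dd h N i ≤ ∑ i ∈ Ico j r, (r - i + 1).choose 2 := by
  by_contra hcon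
  push Not at hcon
  obtain ⟨i, hi, hlt⟩ := exists_lt_of_sum_lt hcon
  rw [mem_Ico] at hi
  have h1 : ∀ j' ∈ range j, (r - j' + 1).choose 2 ≤ dd h N j' := by
    intro j' hj'
    rw [mem_range] at hj'
    refine (lt_dd hyz hN hxz hxy r j' (i - j') (by omega) ?_).le
    have : j' + (i - j') = i := by omega
    rwa [this]
  have h2 : ∑ a ∈ range r, dd h N a ≤ (r + 2).choose 3 :=
    le_trans (sum_le_sum_of_subset (range_subset_range.2 hM)) htot
  rw [← sum_choose r, ← sum_range_add_sum_Ico _ hj, ← sum_range_add_sum_Ico _ hj] at h2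
  have h3 := sum_le_sum h1
  omega

/-- The case of equality. -/
theorem eq_of_tails (hyz : ∀ a b, 0 < h a (b + 1) → h a (b + 1) + 1 ≤ h a b) (hN : ∀ a b, N ≤ b → h a b = 0)
    (hxz : ∀ a b, 0 < h (a + 1) b → h (a + 1) b + 1 ≤ h a b) (hxy : ∀ a b, h (a + 1) b ≤ h a (b + 1))
    (r : ℕ) (M : ℕ) (hM : r < M) (hrN : r < N) (htot : ∑ a ∈ range M, dd h N a ≤ (r + 2).choose 3)
    (heq : ∀ j < r, ∑ i ∈ Ico j r, dd h N i = ∑ i ∈ Ico j r, (r - i + 1).choose 2) (a b : ℕ) :
    h a b = r - a - b := by
  -- the slices have the right size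
  have h1 : ∀ i < r, dd h N i = (r - i + 1).choose 2 := by
    intro i hi
    have h2 := heq i hi
    rw [sum_eq_sum_Ico_succ_bot hi, sum_eq_sum_Ico_succ_bot hi] at h2
    have h3 : ∑ i ∈ Ico (i + 1) r, dd h N i = ∑ i ∈ Ico (i + 1) r, (r - i + 1).choose 2 := by
      rcases lt_or_eq_of_le (Nat.succ_le_of_lt hi) with h4 | h4
      · exact heq _ h4
      · have : i + 1 = r := h4
        rw [this]; simp
    omega
  -- the rest is empty
  have h2 : dd h N r = 0 := by
    have h3 : ∑ a ∈ range (r + 1), dd h N a ≤ (r + 2).choose 3 :=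
      le_trans (sum_le_sum_of_subset (range_subset_range.2 hM)) htot
    rw [sum_range_succ, sum_congr rfl (fun i hi => h1 i (mem_range.1 hi)), sum_choose] at h3
    omega
  have hr : ∀ b, h r b = 0 := by
    intro b
    rcases lt_or_ge b N with hb | hb
    · rw [dd, sum_eq_zero_iff] at h2
      exact h2 b (mem_range.2 hb)
    · exact hN r b hb
  have hge : ∀ a, h (r + a) b = 0 := by
    intro a
    induction a with
    | zero => exact hr b
    | succ a ih =>
      by_contra h0
      have := hxz (r + a) b (Nat.pos_of_ne_zero h0)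
      omega
  -- heights
  have hz : ∀ i, 1 ≤ i → i < r → h i 0 = r - i := by
    intro i hi hir
    have h3 := dd_le (N := N) hyz i
    rw [h1 i hir] at h3
    have h4 := le_of_choose_le h3
    obtain ⟨i, rfl⟩ : ∃ i', i = i' + 1 := ⟨i - 1, by omega⟩
    have h5 := dd_step hN hxz hxy i (by omega)
    rw [h1 _ hir, h1 i (by omega)] at h5
    have h6 : r - i + 1 = (r - (i + 1) + 1) + 1 := by omega
    rw [h6, choose_two_succ (r - (i + 1) + 1)] at h5
    omega
  have hmid : ∀ i, 1 ≤ i → i < r → ∀ b, h i b = r - i - b := by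
    intro i hi hir b
    rcases lt_or_ge b N with hb | hb
    · have h3 : ∀ b ∈ range N, h i b ≤ r - i - b := fun b _ => by
        have := le_sub hyz i b
        rwa [hz i hi hir] at this
      have h4 : ∑ b ∈ range N, h i b = ∑ b ∈ range N, (r - i - b) := by
        rw [sum_sub_eq _ _ (by omega), ← h1 i hir, dd]
      exact (sum_eq_sum_iff_of_le h3).1 h4 b (mem_range.2 hb)
    · rw [hN i b hb]; omega
  rcases Nat.lt_or_ge a r with ha | ha
  · rcases Nat.eq_zero_or_pos a with rfl | ha0
    · have h3 : ∀ b ∈ range N, r - b ≤ h 0 b := by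
        intro b _
        rcases lt_or_ge (b + 1) r with hb | hb
        · have h4 := hmid 1 le_rfl (by omega) b
          have h5 := hxz 0 b (by rw [zero_add, h4]; omega)
          rw [zero_add, h4] at h5
          omega
        · rcases lt_or_ge b r with hb' | hb'
          · have hbr : r = b + 1 := by omega
            rcases Nat.eq_zero_or_pos b with rfl | hb0
            · have h4 := dd_le (N := N) hyz 0
              rw [h1 0 (by omega)] at h4
              have := le_of_choose_le h4
              omega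
            · obtain ⟨b', rfl⟩ : ∃ b', b = b' + 1 := ⟨b - 1, by omega⟩
              have h4 := hmid 1 le_rfl (by omega) b'
              have h5 := hxy 0 b'
              rw [zero_add, h4] at h5
              omega
          · omega
      have h4 : ∑ b ∈ range N, (r - b) = ∑ b ∈ range N, h 0 b := by
        rw [sum_sub_eq _ _ (by omega)]
        have := h1 0 (by omega)
        rw [dd] at this
        rw [this]; rfl
      rcases lt_or_ge b N with hb | hb
      · have := (sum_eq_sum_iff_of_le h3).1 h4 b (mem_range.2 hb)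
        omega
      · rw [hN 0 b hb]; omega
    · exact hmid a ha0 ha b
  · obtain ⟨c, rfl⟩ := Nat.exists_eq_add_of_le ha
    rw [hge c]
    omega

end K871.Tail
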