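import Groth.Agent.W4c1hilbpn.K777.Slice
import Groth.Agent.W4c1hilbpn.K871.Tail
import Mathlib.RingTheory.MvPolynomial.Ideal
import Mathlib.Tactic

set_option autoImplicit false

/-!
Colengths of a strongly stable ideal in three variables and of its slices as sums of staircase numbers.
-/

namespace K871.Sl3

open MvPolynomial W4c1hilbpn K777.Basic K777.Model K777.Decomp K777.Stair K777.Slice Finset

variable {k : Type*} [Field k] {I : Ideal (MvPolynomial (Fin 3) k)}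
  [Module.Finite k (MvPolynomial (Fin 3) k ⧸ I)]

theorem exists_N (hI : IsMonomial I) : ∃ N, (∀ a b, N ≤ a → stairZ I a b = 0) ∧ (∀ a b, N ≤ b → stairZ I a b = 0) := by
  obtain ⟨N, hN⟩ := exists_bound (finite_DD hI)
  have e1 : ∀ i, (Finsupp.single i N : Fin 3 →₀ ℕ) ∈ exps I := hN
  refine ⟨N, fun a b ha => ?_, fun a b hb => ?_⟩
  · by_contra h0
    have h1 := (lt_stairZ_iff hI a b 0).1 (Nat.pos_of_ne_zero h0)
    apply h1
    refine exps_of_le (e1 0) ?_
    intro i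
    fin_cases i <;> simp [ha]
  · by_contra h0
    have h1 := (lt_stairZ_iff hI a b 0).1 (Nat.pos_of_ne_zero h0)
    apply h1
    refine exps_of_le (e1 1) ?_
    intro i
    fin_cases i <;> simp [hb]

theorem finrank_eq (hI : IsMonomial I) (N : ℕ) (h1 : ∀ a b, N ≤ a → stairZ I a b = 0)
    (h2 : ∀ a b, N ≤ b → stairZ I a b = 0) :
    Module.finrank k (MvPolynomial (Fin 3) k ⧸ I) = ∑ a ∈ range N, ∑ b ∈ range N, stairZ I a b := by
  rw [finrank_quot hI]
  have e : {γ : Fin 3 →₀ ℕ // γ ∉ exps I} ≃ (Σ a : Fin N, Σ b : Fin N, Fin (stairZ I a b)) :=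
    { toFun := fun γ =>
        have hγ : γ.1 2 < stairZ I (γ.1 0) (γ.1 1) := by
          rw [lt_stairZ_iff hI]
          have : e3 (γ.1 0) (γ.1 1) (γ.1 2) = γ.1 := (e3_ext rfl rfl rfl).symm
          rw [this]; exact γ.2
        ⟨⟨γ.1 0, by by_contra h; rw [h1 _ _ (not_lt.1 h)] at hγ; omega⟩,
          ⟨γ.1 1, by by_contra h; rw [h2 _ _ (not_lt.1 h)] at hγ; omega⟩, ⟨γ.1 2, hγ⟩⟩
      invFun := fun p => ⟨e3 p.1 p.2.1 p.2.2, (lt_stairZ_iff hI _ _ _).1 p.2.2.2⟩
      left_inv := fun γ => Subtype.ext (e3_ext rfl rfl rfl).symm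
      right_inv := fun p => rfl }
  rw [Nat.card_congr e, Nat.card_sigma, ← Fin.sum_univ_eq_sum_range (fun a => ∑ b ∈ range N, stairZ I a b)]
  refine sum_congr rfl fun a _ => ?_
  rw [Nat.card_sigma, ← Fin.sum_univ_eq_sum_range (fun b => stairZ I a b)]
  refine sum_congr rfl fun b _ => ?_
  rw [Nat.card_fin]

/-- the pair `(b, c)` -/
noncomputable def e2 (b c : ℕ) : Fin 2 →₀ ℕ := Finsupp.equivFunOnFinite.symm ![b, c]

theorem finrank_slice_eq (hI : IsMonomial I) (N : ℕ) (h2 : ∀ a b, N ≤ b → stairZ I a b = 0) (a : ℕ) :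
    Module.finrank k (MvPolynomial (Fin 2) k ⧸ sliceX I a) = ∑ b ∈ range N, stairZ I a b := by
  rw [finrank_quot (isMonomial_sliceX hI a)]
  have e : {γ : Fin 2 →₀ ℕ // γ ∉ exps (sliceX I a)} ≃ (Σ b : Fin N, Fin (stairZ I a b)) :=
    { toFun := fun γ =>
        have hγ : γ.1 1 < stairZ I a (γ.1 0) := by
          rw [lt_stairZ_iff hI, ← mem_exps_sliceX]
          exact γ.2
        ⟨⟨γ.1 0, by by_contra h; rw [h2 _ _ (not_lt.1 h)] at hγ; omega⟩, ⟨γ.1 1, hγ⟩⟩
      invFun := fun p => ⟨e2 p.1 p.2, by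
        rw [mem_exps_sliceX]
        exact (lt_stairZ_iff hI _ _ _).1 p.2.2⟩
      left_inv := fun γ => by
        apply Subtype.ext
        ext i
        fin_cases i <;> rfl
      right_inv := fun p => rfl }
  rw [Nat.card_congr e, Nat.card_sigma, ← Fin.sum_univ_eq_sum_range (fun b => stairZ I a b)]
  refine sum_congr rfl fun b _ => ?_
  rw [Nat.card_fin]

theorem stable_yz (hI : IsStronglyStable I) (a b : ℕ) (h : 0 < stairZ I a (b + 1)) :
    stairZ I a (b + 1) + 1 ≤ stairZ I a b := by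
  by_contra hcon
  push Not at hcon
  obtain ⟨c, hc⟩ : ∃ c, stairZ I a (b + 1) = c + 1 := ⟨stairZ I a (b + 1) - 1, by omega⟩
  have h1 : e3 a (b + 1) c ∉ exps I := (lt_stairZ_iff hI.1 _ _ _).1 (by omega)
  have h2 : e3 a b (c + 1) ∈ exps I := by
    by_contra h2
    rw [← lt_stairZ_iff hI.1] at h2
    omega
  apply h1
  have h3 := hI.2 _ h2 1 2 (by decide) (by simp)
  convert h3 using 1
  symm
  apply e3_ext <;> simp

theorem stable_xz (hI : IsStronglyStable I) (a b : ℕ) (h : 0 < stairZ I (a + 1) b) :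
    stairZ I (a + 1) b + 1 ≤ stairZ I a b := by
  by_contra hcon
  push Not at hcon
  obtain ⟨c, hc⟩ : ∃ c, stairZ I (a + 1) b = c + 1 := ⟨stairZ I (a + 1) b - 1, by omega⟩
  have h1 : e3 (a + 1) b c ∉ exps I := (lt_stairZ_iff hI.1 _ _ _).1 (by omega)
  have h2 : e3 a b (c + 1) ∈ exps I := by
    by_contra h2
    rw [← lt_stairZ_iff hI.1] at h2
    omega
  apply h1
  have h3 := hI.2 _ h2 0 2 (by decide) (by simp)
  convert h3 using 1
  symm
  apply e3_ext <;> simp

theorem stable_xy (hI : IsStronglyStable I) (a b : ℕ) : stairZ I (a + 1) b ≤ stairZ I a (b + 1) := by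
  by_contra hcon
  push Not at hcon
  have h1 : e3 (a + 1) b (stairZ I a (b + 1)) ∉ exps I := (lt_stairZ_iff hI.1 _ _ _).1 hcon
  have h2 : e3 a (b + 1) (stairZ I a (b + 1)) ∈ exps I := by
    by_contra h2
    rw [← lt_stairZ_iff hI.1] at h2
    omega
  apply h1
  have h3 := hI.2 _ h2 0 1 (by decide) (by simp)
  convert h3 using 1
  symm
  apply e3_ext <;> simp

theorem eq_pow (hI : IsMonomial I) (r : ℕ) (h : ∀ a b, stairZ I a b = r - a - b) :
    I = (Ideal.span (Set.range (MvPolynomial.X : Fin 3 → MvPolynomial (Fin 3) k))) ^ r := by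
  change I = (idealOfVars (Fin 3) k) ^ r
  ext p
  rw [mem_iff hI, mem_pow_idealOfVars_iff]
  refine forall₂_congr fun β _ => ?_
  have h1 : e3 (β 0) (β 1) (β 2) = β := (e3_ext rfl rfl rfl).symm
  have h2 := lt_stairZ_iff hI (β 0) (β 1) (β 2)
  rw [h1, h] at h2
  have h3 : β.degree = β 0 + β 1 + β 2 := by
    rw [Finsupp.degree_eq_sum, Fin.sum_univ_three]
  rw [h3, ← not_iff_not, ← h2]
  omega

theorem main [Infinite k] (r : ℕ) (hI : IsStronglyStable I)
    (hd : Module.finrank k (MvPolynomial (Fin 3) k ⧸ I) ≤ Nat.choose (r + 2) 3) :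
    (∀ j, j ≤ r → ∑ i ∈ Finset.Ico j r, Module.finrank k (MvPolynomial (Fin 2) k ⧸ sliceX I i) ≤
        ∑ i ∈ Finset.Ico j r, Nat.choose (r - i + 1) 2) ∧
    ((∀ j, j < r → ∑ i ∈ Finset.Ico j r, Module.finrank k (MvPolynomial (Fin 2) k ⧸ sliceX I i) =
        ∑ i ∈ Finset.Ico j r, Nat.choose (r - i + 1) 2) →
      I = (Ideal.span (Set.range (MvPolynomial.X : Fin 3 → MvPolynomial (Fin 3) k))) ^ r) := by
  obtain ⟨N₀, h1, h2⟩ := exists_N hI.1
  have h1' : ∀ a b, N₀ + r + 1 ≤ a → stairZ I a b = 0 := fun a b h => h1 a b (by omega)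
  have h2' : ∀ a b, N₀ + r + 1 ≤ b → stairZ I a b = 0 := fun a b h => h2 a b (by omega)
  rw [finrank_eq hI.1 (N₀ + r + 1) h1' h2'] at hd
  simp only [finrank_slice_eq hI.1 (N₀ + r + 1) h2']
  refine ⟨fun j hj => ?_, fun h => ?_⟩
  · exact Tail.tail_le (h := stairZ I) (stable_yz hI) h2' (stable_xz hI) (stable_xy hI) r (N₀ + r + 1) (by omega) hd j hj
  · refine eq_pow hI.1 r fun a b => ?_
    exact Tail.eq_of_tails (h := stairZ I) (stable_yz hI) h2' (stable_xz hI) (stable_xy hI) r (N₀ + r + 1) (by omega)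
      (by omega) hd h a b

end K871.Sl3
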