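import Groth.Agent.S6890
import Groth.Agent.S6895
import Groth.Agent.Flat2C.FreeQuot
import Mathlib.RingTheory.Spectrum.Prime.FreeLocus
import Mathlib.RingTheory.Flat.LocallyFree
import Mathlib.Tactic

/-!
Stratification of the base by the Hilbert function of a graded module: Fitting ideals and
generic freeness.
-/

set_option autoImplicit false
universe u
open TensorProduct

namespace K871.Strat

/-- Vanishing pattern of Fitting ideals and projectivity of constant rank. -/
theorem fitt_iff {B : Type u} [CommRing B] (N : Type u) [AddCommGroup N] [Module B N]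
    [Module.FinitePresentation B N] (r : ℕ) :
    ((∀ k, k < r → Fitt.ideal B N k = ⊥) ∧ (∀ k, r ≤ k → Fitt.ideal B N k = ⊤)) ↔
      (Module.Projective B N ∧ ∀ p : PrimeSpectrum B, Module.rankAtStalk N p = r) := by
  rw [← Groth.Agent.S6895.result N r]
  have hrank : ∀ (p : PrimeSpectrum B) (f : B), f ∉ p.asIdeal →
      Module.Free (Localization.Away f) (LocalizedModule (Submonoid.powers f) N) →
      [Module.Flat B N] →
      Module.rankAtStalk N p = Module.finrank (Localization.Away f)
        (LocalizedModule (Submonoid.powers f) N) := by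
    intro p f hf hfree _
    have hmem : p ∈ Set.range (PrimeSpectrum.comap (algebraMap B (Localization.Away f))) := by
      rw [PrimeSpectrum.localization_away_comap_range (Localization.Away f) f]
      exact hf
    obtain ⟨p', rfl⟩ := hmem
    rw [← Module.rankAtStalk_isBaseChange
      (LocalizedModule.isBaseChange (Submonoid.powers f) N) p',
      Module.rankAtStalk_eq_finrank_of_free]
    rfl
  constructor
  · intro h
    have hproj : Module.Projective B N := by
      rw [← Module.freeLocus_eq_univ_iff, Set.eq_univ_iff_forall]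
      intro p
      obtain ⟨f, hf, hfree, -⟩ := h p.asIdeal
      have h1 := (Module.basicOpen_subset_freeLocus_iff (R := B) (M := N) (f := f)).2
        (by
          have := hfree
          exact inferInstanceAs (Module.Projective (Localization.Away f)
            (LocalizedModule (Submonoid.powers f) N)))
      exact h1 hf
    refine ⟨hproj, fun p => ?_⟩
    obtain ⟨f, hf, hfree, hr⟩ := h p.asIdeal
    rw [hrank p f hf hfree, hr]
  · rintro ⟨hproj, hr⟩ p hp
    obtain ⟨f, hf, hfree⟩ := Module.Free.away_of_finite_of_flat_of_rankAtStalk_constant N p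
      (fun m hm => by rw [hr, hr])
    refine ⟨f, hf, hfree, ?_⟩
    rw [← hrank ⟨p, hp⟩ f hf hfree, hr]

/-- Over a domain, the Fitting ideals of a finite projective module are `⊥` or `⊤`. -/
theorem fitt_bot_or_top {B : Type u} [CommRing B] [IsDomain B] (N : Type u) [AddCommGroup N]
    [Module B N] [Module.Finite B N] [Module.Projective B N] (k : ℕ) :
    Fitt.ideal B N k = ⊥ ∨ Fitt.ideal B N k = ⊤ := by
  have hfp : Module.FinitePresentation B N := Module.finitePresentation_of_projective B N
  have h := (fitt_iff (B := B) N (Module.finrank B N)).2 ⟨inferInstance, fun p => by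
    rw [Module.rankAtStalk_eq]
    exact Ideal.finrank_fiber_eq_finrank (R := B) (M := N) p.asIdeal⟩
  rcases lt_or_ge k (Module.finrank B N) with hk | hk
  · exact Or.inl (h.1 k hk)
  · exact Or.inr (h.2 k hk)

section
attribute [local instance] Algebra.TensorProduct.rightAlgebra

variable (A : Type u) [CommRing A]
    (R : Type u) [CommRing R] [Algebra A R] [Algebra.FiniteType A R]
    (M : Type u) [AddCommGroup M] [Module A M] [Module R M] [IsScalarTower A R M] [Module.Finite R M]
    (ℳ : ℤ → Submodule A M) [DirectSum.Decomposition ℳ]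
    (hfg : ∀ v : ℤ, Module.Finite A ↥(ℳ v))

/-- Each piece is a retract of the whole module. -/
theorem exists_retract (v : ℤ) : ∃ π : M →ₗ[A] ℳ v, π ∘ₗ (ℳ v).subtype = LinearMap.id := by
  refine ⟨(DirectSum.component A ℤ (fun i => ℳ i) v) ∘ₗ
    (DirectSum.decomposeLinearEquiv ℳ).toLinearMap, ?_⟩
  ext x
  simp

include R hfg in
/-- Generic constancy of the conditions `Fitt_k(M_v) ≤ p`. -/
theorem exists_generic (J : Ideal A) [hJ : J.IsPrime] :
    ∃ f : A, f ∉ J ∧ ∀ (p : Ideal A) [p.IsPrime], J ≤ p → f ∉ p → ∀ (v : ℤ) (k : ℕ),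
      (Fitt.ideal A (ℳ v) k ≤ p ↔ Fitt.ideal A (ℳ v) k ≤ J) := by
  let D := A ⧸ J
  have hft : Algebra.FiniteType D (D ⊗[A] R) := inferInstance
  obtain ⟨f, hf0, hfree⟩ := Groth.Agent.Flat2C.FreeQuot.generic_free_baseChange (A' := A) (R := D)
    (S' := R) (S₁ := D ⊗[A] R) M
  obtain ⟨f₀, rfl⟩ := Ideal.Quotient.mk_surjective f
  have hf₀ : f₀ ∉ J := fun h => hf0 (Ideal.Quotient.eq_zero_iff_mem.2 h)
  let Lf := Localization.Away (Ideal.Quotient.mk J f₀)
  have hdom : IsDomain Lf := IsLocalization.isDomain_localization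
    (Submonoid.powers_le.2 (mem_nonZeroDivisors_of_ne_zero hf0))
  have hfree' : Module.Free Lf (Lf ⊗[A] M) := Module.Free.of_equiv
    (AlgebraTensorModule.cancelBaseChange A D Lf Lf M)
  have hbt : ∀ (v : ℤ) (k : ℕ), (Fitt.ideal A (ℳ v) k).map (algebraMap A Lf) = ⊥ ∨
      (Fitt.ideal A (ℳ v) k).map (algebraMap A Lf) = ⊤ := by
    intro v k
    have := hfg v
    obtain ⟨π, hπ⟩ := exists_retract A M ℳ v
    have hproj : Module.Projective Lf (Lf ⊗[A] (ℳ v)) := by
      refine Module.Projective.of_split ((ℳ v).subtype.baseChange Lf) (π.baseChange Lf) ?_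
      rw [← LinearMap.baseChange_comp, hπ, LinearMap.baseChange_id]
    rw [← Groth.Agent.S6890.result (R := A) (R' := Lf) (ℳ v) k]
    exact fitt_bot_or_top (B := Lf) (Lf ⊗[A] (ℳ v)) k
  -- maps to residue fields
  have hmap : ∀ (p : Ideal A) [p.IsPrime], J ≤ p → f₀ ∉ p →
      ∃ ψ : Lf →+* p.ResidueField, ψ.comp (algebraMap A Lf) = algebraMap A p.ResidueField := by
    intro p _ hJp hfp
    let φ : D →+* p.ResidueField := Ideal.Quotient.lift J (algebraMap A p.ResidueField)
      (fun a ha => by
        have h1 : a ∈ RingHom.ker (algebraMap A p.ResidueField) := by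
          rw [Ideal.ker_algebraMap_residueField]
          exact hJp ha
        exact h1)
    have hu : IsUnit (φ (Ideal.Quotient.mk J f₀)) := by
      rw [isUnit_iff_ne_zero]
      intro h0
      have h1 : f₀ ∈ RingHom.ker (algebraMap A p.ResidueField) := h0
      rw [Ideal.ker_algebraMap_residueField] at h1
      exact hfp h1
    refine ⟨IsLocalization.Away.lift (Ideal.Quotient.mk J f₀) hu, ?_⟩
    ext a
    rw [RingHom.comp_apply, IsScalarTower.algebraMap_apply A D Lf,
      IsLocalization.Away.lift_eq]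
    rfl
  have hcrit : ∀ (p : Ideal A) [p.IsPrime], J ≤ p → f₀ ∉ p → ∀ (v : ℤ) (k : ℕ),
      (Fitt.ideal A (ℳ v) k ≤ p ↔ (Fitt.ideal A (ℳ v) k).map (algebraMap A Lf) = ⊥) := by
    intro p _ hJp hfp v k
    obtain ⟨ψ, hψ⟩ := hmap p hJp hfp
    constructor
    · intro hle
      rcases hbt v k with h | h
      · exact h
      · exfalso
        have h1 : (Fitt.ideal A (ℳ v) k).map (algebraMap A p.ResidueField) = ⊤ := by
          rw [← hψ, ← Ideal.map_map, h, Ideal.map_top]
        have h2 : (Fitt.ideal A (ℳ v) k).map (algebraMap A p.ResidueField) ≤ ⊥ := by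
          rw [Ideal.map_le_iff_le_comap]
          intro a ha
          have h3 : a ∈ RingHom.ker (algebraMap A p.ResidueField) := by
            rw [Ideal.ker_algebraMap_residueField]
            exact hle ha
          exact h3
        rw [h1] at h2
        exact bot_ne_top (top_le_iff.1 h2)
    · intro h a ha
      rw [← Ideal.ker_algebraMap_residueField p, RingHom.mem_ker, ← hψ, RingHom.comp_apply]
      have h1 : algebraMap A Lf a ∈ (Fitt.ideal A (ℳ v) k).map (algebraMap A Lf) :=
        Ideal.mem_map_of_mem _ ha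
      rw [h, Ideal.mem_bot] at h1
      rw [h1, map_zero]
  refine ⟨f₀, hf₀, fun p _ hJp hfp v k => ?_⟩
  rw [hcrit p hJp hfp v k, hcrit J le_rfl hf₀ v k]

include R hfg in
/-- Finitely many pieces decide the rank conditions at all primes. -/
theorem exists_finset [IsNoetherianRing A] (h : ℤ → ℕ) (J : Ideal A) :
    ∃ T : Finset ℤ, ∀ (p : Ideal A) [p.IsPrime], J ≤ p →
      (∀ v ∈ T, ¬ Fitt.ideal A (ℳ v) (h v) ≤ p) → ∀ v, ¬ Fitt.ideal A (ℳ v) (h v) ≤ p := by
  classical
  refine IsNoetherian.induction (R := A) (M := A) (P := fun J : Ideal A =>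
    ∃ T : Finset ℤ, ∀ (p : Ideal A) [p.IsPrime], J ≤ p →
      (∀ v ∈ T, ¬ Fitt.ideal A (ℳ v) (h v) ≤ p) → ∀ v, ¬ Fitt.ideal A (ℳ v) (h v) ≤ p) ?_ J
  · intro (J : Ideal A) ih
    by_cases hJtop : J = ⊤
    · subst hJtop
      exact ⟨∅, fun p hp hle => absurd (top_le_iff.1 hle) hp.ne_top⟩
    by_cases hJ : J.IsPrime
    · obtain ⟨f, hf, hgen⟩ := exists_generic A R M ℳ hfg J
      have hlt : J < J ⊔ Ideal.span {f} := by
        refine lt_of_le_of_ne le_sup_left fun heq => hf ?_
        rw [heq]
        exact Ideal.mem_sup_right (Ideal.mem_span_singleton_self f)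
      obtain ⟨T, hT⟩ := ih _ hlt
      have key : ∀ (p : Ideal A) [p.IsPrime], J ≤ p → f ∈ p → J ⊔ Ideal.span {f} ≤ p :=
        fun p _ hJp hfp => sup_le hJp ((Ideal.span_singleton_le_iff_mem _).2 hfp)
      by_cases hv : ∃ v0, Fitt.ideal A (ℳ v0) (h v0) ≤ J
      · obtain ⟨v0, hv0⟩ := hv
        refine ⟨insert v0 T, fun p hp hJp hT' v => ?_⟩
        exact absurd (hv0.trans hJp) (hT' v0 (Finset.mem_insert_self _ _))
      · push Not at hv
        refine ⟨T, fun p hp hJp hT' v => ?_⟩
        by_cases hfp : f ∈ p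
        · exact hT p (key p hJp hfp) hT' v
        · rw [hgen p hJp hfp]
          exact hv v
    · rw [Ideal.isPrime_iff] at hJ
      push Not at hJ
      obtain ⟨x, y, hxy, hx, hy⟩ := hJ hJtop
      have hltx : J < J ⊔ Ideal.span {x} := by
        refine lt_of_le_of_ne le_sup_left fun heq => hx ?_
        rw [heq]
        exact Ideal.mem_sup_right (Ideal.mem_span_singleton_self x)
      have hlty : J < J ⊔ Ideal.span {y} := by
        refine lt_of_le_of_ne le_sup_left fun heq => hy ?_
        rw [heq]
        exact Ideal.mem_sup_right (Ideal.mem_span_singleton_self y)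
      obtain ⟨T1, hT1⟩ := ih _ hltx
      obtain ⟨T2, hT2⟩ := ih _ hlty
      refine ⟨T1 ∪ T2, fun p hp hJp hT v => ?_⟩
      rcases hp.mem_or_mem (hJp hxy) with hxp | hyp
      · exact hT1 p (sup_le hJp ((Ideal.span_singleton_le_iff_mem _).2 hxp))
          (fun v hv => hT v (Finset.mem_union_left _ hv)) v
      · exact hT2 p (sup_le hJp ((Ideal.span_singleton_le_iff_mem _).2 hyp))
          (fun v hv => hT v (Finset.mem_union_right _ hv)) v

end

end K871.Strat
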