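import Groth.Agent.W4c1hilbpn.K871.GenMdl
import Mathlib.Tactic

set_option autoImplicit false

/-!
Degree zero homomorphisms for the ideal of two coordinate linear spaces.
-/

namespace K871.TwoPlanes

open MvPolynomial W4c1hilbpn K777.Basic K777.Model K777.Decomp K777.Colen K871.GenMdl

/-- unit vector with a natural number index -/
def ee {n : ℕ} (a : ℕ) : Fin (n + 1) → ℤ := fun t => if t.val = a then 1 else 0

theorem sum_ee {n a : ℕ} (ha : a ≤ n) : ∑ t, (ee a : Fin (n + 1) → ℤ) t = 1 := by
  rw [Finset.sum_eq_single (⟨a, by omega⟩ : Fin (n + 1))]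
  · simp [ee]
  · intro t _ ht
    have : t.val ≠ a := fun h => ht (Fin.ext h)
    simp [ee, this]
  · simp

/-- A nonnegative vector of sum one is a unit vector. -/
theorem eq_ee_of_sum_one {n : ℕ} {γ : Fin (n + 1) → ℤ} (h0 : ∀ t, 0 ≤ γ t) (h1 : ∑ t, γ t = 1) :
    ∃ m ≤ n, γ = ee m := by
  have hex : ∃ m, 0 < γ m := by
    by_contra hcon
    push Not at hcon
    have : ∑ t, γ t ≤ 0 := Finset.sum_nonpos fun t _ => hcon t
    omega
  obtain ⟨m, hm⟩ := hex
  refine ⟨m.val, by omega, ?_⟩
  have h2 : γ m + ∑ t ∈ Finset.univ.erase m, γ t = 1 := by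
    rw [Finset.add_sum_erase _ _ (Finset.mem_univ m)]; exact h1
  have h3 : 0 ≤ ∑ t ∈ Finset.univ.erase m, γ t := Finset.sum_nonneg fun t _ => h0 t
  have h4 : ∑ t ∈ Finset.univ.erase m, γ t = 0 := by omega
  rw [Finset.sum_eq_zero_iff_of_nonneg (fun t _ => h0 t)] at h4
  ext t
  by_cases ht : t = m
  · subst ht
    simp [ee]; omega
  · have : t.val ≠ m.val := fun h => ht (Fin.ext h)
    simp only [ee, this, if_false]
    exact h4 t (by simp [ht])

section

variable (n c d : ℕ)

/-- generators -/
def Gam : Type := {p : ℕ × ℕ // p.1 < c ∧ n < p.2 + d ∧ p.2 ≤ n}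

def gg (p : Gam n c d) : Fin (n + 1) → ℤ := ee p.1.1 + ee p.1.2

variable (k : Type*) [Field k]

noncomputable def II : Ideal (MvPolynomial (Fin (n + 1)) k) :=
  Ideal.span {f : MvPolynomial (Fin (n + 1)) k | ∃ i j : Fin (n + 1), i.val + 1 ≤ c ∧ n + 1 ≤ j.val + d ∧
        f = MvPolynomial.X i * MvPolynomial.X j}

variable {n c d} (hcd : c + d ≤ n)

include hcd in
theorem isGen : IsGen (II n c d k) (gg n c d) := by
  have hlt1 : ∀ p : Gam n c d, p.1.1 < n + 1 := fun p => by have := p.2.1; omega
  have hlt2 : ∀ p : Gam n c d, p.1.2 < n + 1 := fun p => by have := p.2.2; omega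
  let G : Gam n c d → Fin (n + 1) →₀ ℕ := fun p =>
    Finsupp.single ⟨p.1.1, hlt1 p⟩ 1 + Finsupp.single ⟨p.1.2, hlt2 p⟩ 1
  have h1 : II n c d k = Ideal.span (Set.range fun i => monomial (G i) (1 : k)) := by
    rw [II]
    congr 1
    ext f
    constructor
    · rintro ⟨i, j, hi, hj, rfl⟩
      refine ⟨⟨(i.val, j.val), by omega, by dsimp only; omega, by have := j.2; dsimp only; omega⟩, ?_⟩
      simp only [G, X, monomial_mul, one_mul]
    · rintro ⟨p, rfl⟩
      refine ⟨⟨p.1.1, hlt1 p⟩, ⟨p.1.2, hlt2 p⟩, by have := p.2.1; dsimp only; omega,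
        by have := p.2.2.1; dsimp only; omega, ?_⟩
      simp only [G, X, monomial_mul, one_mul]
  have h2 : gg n c d = (fun i t => ((G i t : ℕ) : ℤ)) := by
    ext p t
    simp only [gg, G, ee, Pi.add_apply, Finsupp.add_apply, Finsupp.single_apply, Fin.ext_iff, Nat.cast_add,
      Nat.cast_ite, Nat.cast_one, Nat.cast_zero]
    simp only [eq_comm]
  rw [h1, h2]
  exact isGen_span k G

include hcd in
theorem mem_DD (γ : Fin (n + 1) → ℤ) : γ ∈ DD (II n c d k) ↔ (∀ t, 0 ≤ γ t) ∧
    ((∀ t : Fin (n + 1), t.val < c → γ t = 0) ∨ (∀ t : Fin (n + 1), n < t.val + d → γ t = 0)) := by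
  have hg := isGen k hcd
  constructor
  · intro h
    refine ⟨h.1, ?_⟩
    by_contra hcon
    push Not at hcon
    obtain ⟨⟨i, hi, hi'⟩, ⟨j, hj, hj'⟩⟩ := hcon
    refine not_mem_DD ((hg.mem_iff γ).2 ⟨⟨(i.val, j.val), hi, hj, by have := j.2; dsimp only; omega⟩, ?_⟩) h
    intro t
    have h1 := h.1 t
    have h2 := h.1 i
    have h3 := h.1 j
    simp only [gg, ee, Pi.add_apply]
    by_cases hti : t = i
    · subst hti
      have : t.val ≠ j.val := by omega
      simp only [this, if_true, if_false]; omega
    · by_cases htj : t = j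
      · subst htj
        have : t.val ≠ i.val := by omega
        simp only [this, if_true, if_false]; omega
      · have h4 : t.val ≠ i.val := fun h => hti (Fin.ext h)
        have h5 : t.val ≠ j.val := fun h => htj (Fin.ext h)
        simp only [h4, h5, if_false]; omega
  · rintro ⟨h0, h⟩
    rcases mem_UU_or_DD (I := II n c d k) h0 with h1 | h1
    · obtain ⟨p, hp⟩ := (hg.mem_iff γ).1 h1
      have hp1 := p.2.1
      have hp2 := p.2.2.1
      have hp3 := p.2.2.2
      exfalso
      rcases h with h | h
      · have h2 := hp ⟨p.1.1, by omega⟩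
        have h3 := h ⟨p.1.1, by omega⟩ hp1
        simp only [gg, ee, Pi.add_apply] at h2
        rw [h3] at h2
        split_ifs at h2 <;> omega
      · have h2 := hp ⟨p.1.2, by omega⟩
        have h3 := h ⟨p.1.2, by omega⟩ hp2
        simp only [gg, ee, Pi.add_apply] at h2
        rw [h3] at h2
        split_ifs at h2 <;> omega
    · exact h1

/-- the coordinates -/
abbrev Coo (n c d : ℕ) : Type :=
  (Fin d × Fin (n + 1 - d)) ⊕ (Fin c × Fin (n + 1 - c))

theorem main (hc : 2 ≤ c) (hd : 2 ≤ d) (hcd : c + d ≤ n) :
    Module.finrank k ↥(⨆ α : {α : Fin (n + 1) → ℤ | ∑ i, α i = 0}, tPiece (II n c d k) (α : Fin (n + 1) → ℤ)) =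
      c * (n - c + 1) + d * (n - d + 1) := by
  have hg := isGen k hcd
  have hpair : ∀ i j : ℕ, i < c → n < j + d → j ≤ n → ∃ p : Gam n c d, p.1 = (i, j) := fun i j h1 h2 h3 =>
    ⟨⟨(i, j), h1, h2, h3⟩, rfl⟩
  let g0 : ∀ (i j : ℕ), i < c → n < j + d → j ≤ n → Gam n c d := fun i j h1 h2 h3 => ⟨(i, j), h1, h2, h3⟩
  have hcard : Fintype.card (Coo n c d) = c * (n - c + 1) + d * (n - d + 1) := by
    simp only [Coo, Fintype.card_sum, Fintype.card_prod, Fintype.card_fin]
    have e1 : n + 1 - d = n - d + 1 := by omega
    have e2 : n + 1 - c = n - c + 1 := by omega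
    rw [e1, e2, add_comm]
  rw [← hcard]
  refine finrank_iSup hg _
    (gi := Sum.elim (fun x => g0 0 (n - x.1.val) (by omega) (by omega) (by omega))
      (fun x => g0 x.1.val n (by omega) (by omega) le_rfl))
    (al := Sum.elim (fun x => ee x.2.val - ee (n - x.1.val)) (fun x => ee (c + x.2.val) - ee x.1.val))
    ?_ ?_ ?_
  · rintro (x | x)
    · change ∑ i, ((ee x.2.val : Fin (n + 1) → ℤ) i - (ee (n - x.1.val) : Fin (n + 1) → ℤ) i) = 0
      rw [Finset.sum_sub_distrib, sum_ee (by omega), sum_ee (by omega)]; rfl
    · change ∑ i, ((ee (c + x.2.val) : Fin (n + 1) → ℤ) i - (ee x.1.val : Fin (n + 1) → ℤ) i) = 0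
      rw [Finset.sum_sub_distrib, sum_ee (by omega), sum_ee (by omega)]; rfl
  · intro α hα e he h0
    have hα : ∑ i, α i = 0 := hα
    rintro ⟨⟨i, j⟩, hi, hj, hjn⟩
    dsimp only at hi hj hjn
    by_contra hne
    have hmem := he.mem _ hne
    obtain ⟨hnn, hXY⟩ := (mem_DD k hcd _).1 hmem
    set p : Gam n c d := ⟨(i, j), hi, hj, hjn⟩ with hp
    have hgp : ∀ t, gg n c d p t = (if t.val = i then 1 else 0) + (if t.val = j then 1 else 0) := fun t => rfl
    have hsum : ∑ t, (gg n c d p + α) t = 2 := by
      simp only [Pi.add_apply]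
      rw [Finset.sum_add_distrib, hα, add_zero]
      change ∑ t, ((ee i : Fin (n + 1) → ℤ) t + (ee j : Fin (n + 1) → ℤ) t) = 2
      rw [Finset.sum_add_distrib, sum_ee (by omega), sum_ee (by omega)]; rfl
    have hnn' : ∀ t, 0 ≤ gg n c d p t + α t := fun t => hnn t
    rcases hXY with hX | hY
    · -- no `X`
      have hX' : ∀ t : Fin (n + 1), t.val < c → gg n c d p t + α t = 0 := fun t => hX t
      by_cases hγj : gg n c d p ⟨j, by omega⟩ + α ⟨j, by omega⟩ = 0
      · -- another index `j'`
        obtain ⟨j', hj', hj'n, hne'⟩ : ∃ j', n < j' + d ∧ j' ≤ n ∧ j' ≠ j := by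
          by_cases h : j = n
          · exact ⟨n - 1, by omega, by omega, by omega⟩
          · exact ⟨n, by omega, le_rfl, fun h' => h h'.symm⟩
        have hlink := he.eq p (g0 i j' hi hj' hj'n) ((mem_DD k hcd _).2 ⟨fun t => ?_, Or.inl fun t ht => ?_⟩)
        · have h1 : e (g0 i j' hi hj' hj'n) ≠ 0 := by rw [← hlink]; exact hne
          have h2 := ((mem_DD k hcd _).1 (he.mem _ h1)).1 ⟨j, by omega⟩
          simp only [Pi.add_apply, gg, ee, hp, g0, if_true] at h2 hγj
          omega
        · have := hnn' t
          simp only [Pi.add_apply, Pi.sup_apply]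
          omega
        · have h1 := hX' t ht
          simp only [Pi.add_apply, Pi.sup_apply, gg, ee, hp, g0] at h1 ⊢
          rw [if_neg (show ¬ t.val = j by omega)] at h1 ⊢
          rw [if_neg (show ¬ t.val = j' by omega)]
          omega
      · -- `γ = e_j + e_m`
        obtain ⟨m, hm, hγ⟩ := eq_ee_of_sum_one (γ := gg n c d p + α - ee j) (fun t => by
            have h1 := hnn' t
            simp only [Pi.sub_apply, Pi.add_apply, ee]
            by_cases ht : t.val = j
            · have e : (⟨j, by omega⟩ : Fin (n + 1)) = t := Fin.ext ht.symm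
              rw [e] at hγj
              rw [if_pos ht]; omega
            · rw [if_neg ht]; omega) (by
            simp only [Pi.sub_apply]
            rw [Finset.sum_sub_distrib, hsum, sum_ee (by omega)]; rfl)
        have hαm : α = ee m - ee i := by
          ext t
          have := congrFun hγ t
          simp only [Pi.sub_apply, Pi.add_apply, hgp, ee] at this ⊢
          omega
        have hmX : c ≤ m := by
          by_contra hcon
          have h1 := hX' ⟨m, by omega⟩ (by dsimp only; omega)
          have h2 := congrFun hγ ⟨m, by omega⟩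
          simp only [Pi.sub_apply, Pi.add_apply, ee] at h2
          split_ifs at h2 <;> omega
        have hco := h0 (Sum.inr (⟨i, hi⟩, ⟨m - c, by omega⟩)) (by
          simp only [Sum.elim_inr]
          rw [hαm, show c + (m - c) = m by omega])
        simp only [Sum.elim_inr] at hco
        have hlink := he.eq p (g0 i n hi (by omega) le_rfl) ((mem_DD k hcd _).2 ⟨fun t => ?_, Or.inl fun t ht => ?_⟩)
        · exact hne (hlink.trans hco)
        · have := hnn' t
          simp only [Pi.add_apply, Pi.sup_apply]
          omega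
        · have h1 := hX' t ht
          simp only [Pi.add_apply, Pi.sup_apply, gg, ee, hp, g0] at h1 ⊢
          rw [if_neg (show ¬ t.val = j by omega)] at h1 ⊢
          rw [if_neg (show ¬ t.val = n by omega)]
          omega
    · -- no `Y`
      have hY' : ∀ t : Fin (n + 1), n < t.val + d → gg n c d p t + α t = 0 := fun t => hY t
      by_cases hγi : gg n c d p ⟨i, by omega⟩ + α ⟨i, by omega⟩ = 0
      · obtain ⟨i', hi', hne'⟩ : ∃ i', i' < c ∧ i' ≠ i := by
          by_cases h : i = 0
          · exact ⟨1, by omega, by omega⟩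
          · exact ⟨0, by omega, fun h' => h h'.symm⟩
        have hlink := he.eq p (g0 i' j hi' hj hjn) ((mem_DD k hcd _).2 ⟨fun t => ?_, Or.inr fun t ht => ?_⟩)
        · have h1 : e (g0 i' j hi' hj hjn) ≠ 0 := by rw [← hlink]; exact hne
          have h2 := ((mem_DD k hcd _).1 (he.mem _ h1)).1 ⟨i, by omega⟩
          simp only [Pi.add_apply, gg, ee, hp, g0, if_true] at h2 hγi
          omega
        · have := hnn' t
          simp only [Pi.add_apply, Pi.sup_apply]
          omega
        · have h1 := hY' t ht
          simp only [Pi.add_apply, Pi.sup_apply, gg, ee, hp, g0] at h1 ⊢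
          rw [if_neg (show ¬ t.val = i by omega)] at h1 ⊢
          rw [if_neg (show ¬ t.val = i' by omega)]
          omega
      · obtain ⟨m, hm, hγ⟩ := eq_ee_of_sum_one (γ := gg n c d p + α - ee i) (fun t => by
            have h1 := hnn' t
            simp only [Pi.sub_apply, Pi.add_apply, ee]
            by_cases ht : t.val = i
            · have e : (⟨i, by omega⟩ : Fin (n + 1)) = t := Fin.ext ht.symm
              rw [e] at hγi
              rw [if_pos ht]; omega
            · rw [if_neg ht]; omega) (by
            simp only [Pi.sub_apply]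
            rw [Finset.sum_sub_distrib, hsum, sum_ee (by omega)]; rfl)
        have hαm : α = ee m - ee j := by
          ext t
          have := congrFun hγ t
          simp only [Pi.sub_apply, Pi.add_apply, hgp, ee] at this ⊢
          omega
        have hmY : m + d ≤ n := by
          by_contra hcon
          have h1 := hY' ⟨m, by omega⟩ (by dsimp only; omega)
          have h2 := congrFun hγ ⟨m, by omega⟩
          simp only [Pi.sub_apply, Pi.add_apply, ee] at h2
          split_ifs at h2 <;> omega
        have hco := h0 (Sum.inl (⟨n - j, by omega⟩, ⟨m, by omega⟩)) (by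
          simp only [Sum.elim_inl]
          rw [hαm, show n - (n - j) = j by omega])
        simp only [Sum.elim_inl] at hco
        have hlink := he.eq p (g0 0 (n - (n - j)) (by omega) (by omega) (by omega))
          ((mem_DD k hcd _).2 ⟨fun t => ?_, Or.inr fun t ht => ?_⟩)
        · exact hne (hlink.trans hco)
        · have := hnn' t
          simp only [Pi.add_apply, Pi.sup_apply]
          omega
        · have h1 := hY' t ht
          simp only [Pi.add_apply, Pi.sup_apply, gg, ee, hp, g0] at h1 ⊢
          rw [if_neg (show ¬ t.val = i by omega)] at h1 ⊢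
          rw [if_neg (show ¬ t.val = 0 by omega)]
          rw [show n - (n - j) = j by omega]
          omega
  · classical
    rintro (⟨a, b⟩ | ⟨a, b⟩)
    · -- `T = {(i, n - a)}`
      have ha := a.2
      have hb := b.2
      refine ⟨_, isCompat_indicator (k := k) hg {p : Gam n c d | p.1.2 = n - a.val} ?_ ?_, ?_, ?_⟩
      · rintro ⟨⟨i, j⟩, hi, hj, hjn⟩ hT
        have hT' : j = n - a.val := hT
        subst hT'
        dsimp only at hi
        refine (mem_DD k hcd _).2 ⟨fun t => ?_, Or.inr fun t ht => ?_⟩
        · simp only [Sum.elim_inl, Pi.add_apply, Pi.sub_apply, gg, ee]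
          omega
        · simp only [Sum.elim_inl, Pi.add_apply, Pi.sub_apply, gg, ee]
          omega
      · rintro ⟨⟨i, j⟩, hi, hj, hjn⟩ hT ⟨⟨i', j'⟩, hi', hj', hjn'⟩ hT'
        have hT1 : j = n - a.val := hT
        have hT2 : ¬ j' = n - a.val := hT'
        subst hT1
        dsimp only at hi hi' hj' hjn'
        refine ⟨⟨(i, j'), hi, hj', hjn'⟩, fun t => ?_⟩
        simp only [Sum.elim_inl, Pi.add_apply, Pi.sub_apply, Pi.sup_apply, gg, ee]
        omega
      · exact if_pos rfl
      · rintro (⟨a', b'⟩ | ⟨a', b'⟩) hne hal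
        · have ha' := a'.2
          have hb' := b'.2
          simp only [Sum.elim_inl] at hal
          have h1 : a'.val = a.val := by
            have h2 := congrFun hal ⟨n - a.val, by omega⟩
            simp only [Pi.sub_apply, ee] at h2
            split_ifs at h2 <;> omega
          have h2 : b'.val = b.val := by
            have h2 := congrFun hal ⟨b.val, by omega⟩
            simp only [Pi.sub_apply, ee] at h2
            split_ifs at h2 <;> omega
          exact absurd (by rw [Fin.ext h1, Fin.ext h2]) hne
        · exfalso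
          have ha' := a'.2
          have hb' := b'.2
          have h2 := congrFun hal ⟨n - a.val, by omega⟩
          have h3 := congrFun hal ⟨a'.val, by omega⟩
          simp only [Sum.elim_inl, Sum.elim_inr, Pi.sub_apply, ee] at h2 h3
          split_ifs at h2 <;> split_ifs at h3 <;> omega
    · have ha := a.2
      have hb := b.2
      refine ⟨_, isCompat_indicator (k := k) hg {p : Gam n c d | p.1.1 = a.val} ?_ ?_, ?_, ?_⟩
      · rintro ⟨⟨i, j⟩, hi, hj, hjn⟩ hT
        have hT' : i = a.val := hT
        subst hT'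
        dsimp only at hj hjn
        refine (mem_DD k hcd _).2 ⟨fun t => ?_, Or.inl fun t ht => ?_⟩
        · simp only [Sum.elim_inr, Pi.add_apply, Pi.sub_apply, gg, ee]
          omega
        · simp only [Sum.elim_inr, Pi.add_apply, Pi.sub_apply, gg, ee]
          omega
      · rintro ⟨⟨i, j⟩, hi, hj, hjn⟩ hT ⟨⟨i', j'⟩, hi', hj', hjn'⟩ hT'
        have hT1 : i = a.val := hT
        have hT2 : ¬ i' = a.val := hT'
        subst hT1
        dsimp only at hj hjn hi' hj' hjn'
        refine ⟨⟨(i', j), hi', hj, hjn⟩, fun t => ?_⟩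
        simp only [Sum.elim_inr, Pi.add_apply, Pi.sub_apply, Pi.sup_apply, gg, ee]
        omega
      · exact if_pos rfl
      · rintro (⟨a', b'⟩ | ⟨a', b'⟩) hne hal
        · exfalso
          have ha' := a'.2
          have hb' := b'.2
          have h2 := congrFun hal ⟨n - a'.val, by omega⟩
          have h3 := congrFun hal ⟨a.val, by omega⟩
          simp only [Sum.elim_inl, Sum.elim_inr, Pi.sub_apply, ee] at h2 h3
          split_ifs at h2 <;> split_ifs at h3 <;> omega
        · have ha' := a'.2
          have hb' := b'.2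
          simp only [Sum.elim_inr] at hal
          have h1 : a'.val = a.val := by
            have h2 := congrFun hal ⟨a.val, by omega⟩
            simp only [Pi.sub_apply, ee] at h2
            split_ifs at h2 <;> omega
          have h2 : b'.val = b.val := by
            have h2 := congrFun hal ⟨c + b.val, by omega⟩
            simp only [Pi.sub_apply, ee] at h2
            split_ifs at h2 <;> omega
          exact absurd (by rw [Fin.ext h1, Fin.ext h2]) hne

end

end K871.TwoPlanes
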